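import Cfsg.Agent.P43.BS
import Cfsg.Agent.P43.KL

/-! Lemmas on the centraliser of an involution modulo the involution. -/

set_option autoImplicit false

namespace Cfsg.Agent.P43

open Subgroup Cfsg.Agent.Local Cfsg.Agent.Char

variable {G : Type*} [Group G] [Finite G]

omit [Finite G] in
theorem exists_quotC {s : G} (ss : s * s = 1) : ∃ (N : Subgroup (centralizer ({s} : Set G)))
    (_ : N.Normal), (∀ g k, QuotientGroup.mk' N g = QuotientGroup.mk' N k →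
      (g : G) = k ∨ (g : G) = k * s) ∧ (∀ g : centralizer ({s} : Set G), (g : G) = s → QuotientGroup.mk' N g = 1) ∧
    ∀ g a b, a ^ 3 = 1 → b ^ 3 = 1 → QuotientGroup.mk' N g * QuotientGroup.mk' N a *
      (QuotientGroup.mk' N g)⁻¹ = QuotientGroup.mk' N b → (g : G) * a * (g : G)⁻¹ = b := by
  have hs : ∀ g : centralizer ({s} : Set G), g * ⟨s, mem_centralizer_singleton_iff.mpr rfl⟩ =
      ⟨s, mem_centralizer_singleton_iff.mpr rfl⟩ * g :=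
    fun g => Subtype.ext (mem_centralizer_singleton_iff.mp g.2)
  obtain ⟨N, hN, hk⟩ := exists_quot hs (Subtype.ext ss)
  exact ⟨N, hN, fun g k e => (eq_or_of_ker hk e).imp (congrArg Subtype.val) (congrArg Subtype.val),
    fun g e => (hk g).mpr (Or.inr (Subtype.ext e)), fun g a b ha hb e => congrArg Subtype.val
      (eq_of_cube hs (Subtype.ext ss) hk (a := g * a * g⁻¹) (by rw [conj_pow, ha]; group) hb
        (by rw [map_mul, map_mul, map_inv, e]))⟩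

theorem bs_mod {s p q b : G} {H₁ H₂ : Subgroup G} (ss : s * s = 1) (h1 : H₁ ≤ centralizer {s})
    (h2 : H₂ ≤ centralizer {s}) (hpY : p ∈ centralizer {s}) (hbY : b ∈ centralizer {s})
    (hp : p ^ 3 = 1) (hq : orderOf q = 3) (hq₁ : q ∈ H₁) (hq₂ : q ∈ H₂) (s1 : s ∈ H₁) (s2 : s ∈ H₂)
    (a1 : p ∉ H₁) (a2 : ∀ h ∈ H₁, h * p = p * h)
    (a3 : ∀ g ∈ centralizer {s}, g * p = p * g → ∃ i : ℕ, ∃ h ∈ H₁, g = p ^ i * h)
    (a4 : ∀ h ∈ H₁, h * q = q * h → h ∈ zpowers q ∨ h * s ∈ zpowers q)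
    (a5 : ∃ h ∈ H₁, h * q * h⁻¹ = q⁻¹) (b1 : p * q ∉ H₂) (b2 : ∀ h ∈ H₂, h * (p * q) = p * q * h)
    (b3 : ∀ g ∈ centralizer {s}, g * (p * q) = p * q * g → ∃ i : ℕ, ∃ h ∈ H₂, g = (p * q) ^ i * h)
    (b4 : ∀ h ∈ H₂, h * q = q * h → h ∈ zpowers q ∨ h * s ∈ zpowers q)
    (b5 : ∀ h ∈ H₂, h * q * h⁻¹ ≠ q⁻¹) (c1 : ∀ g, g * p * g⁻¹ ≠ p * q)
    (c2 : ∃ g ∈ centralizer {s}, g * p * g⁻¹ = p⁻¹)
    (c3 : ∃ g ∈ centralizer {s}, g * (p * q) * g⁻¹ = (p * q)⁻¹) (hb : b * b = 1)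
    (d1 : ∀ k ∈ centralizer {s}, k * b * k⁻¹ * p * (k * b * k⁻¹)⁻¹ ≠ p⁻¹)
    (d2 : ∀ k ∈ centralizer {s}, k * b * k⁻¹ * (p * q) * (k * b * k⁻¹)⁻¹ ≠ (p * q)⁻¹) :
    ∃ M ≤ centralizer {s}, centralizer {s} ≤ normalizer (M : Set G) ∧ s ∈ M ∧ b ∈ M ∧ p ∉ M := by
  obtain ⟨N, hN, k1, k2, k3⟩ := exists_quotC ss
  set f := QuotientGroup.mk' N
  have hf : Function.Surjective f := QuotientGroup.mk'_surjective N
  let p' : centralizer {s} := ⟨p, hpY⟩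
  let q' : centralizer {s} := ⟨q, h1 hq₁⟩
  let s' : centralizer {s} := ⟨s, h1 s1⟩
  have p3 : p' ^ 3 = 1 := Subtype.ext hp
  have q3 : q' ^ 3 = 1 := Subtype.ext (hq ▸ pow_orderOf_eq_one q)
  have u3 : (p' * q') ^ 3 = 1 := by
    rw [Commute.mul_pow (Subtype.ext (a2 q hq₁).symm), p3, q3, mul_one]
  have i3 : ∀ {c : centralizer {s}}, c ^ 3 = 1 → c⁻¹ ^ 3 = 1 := fun e => by rw [inv_pow, e, inv_one]
  have m1 : ∀ {H : Subgroup G} {g : centralizer {s}}, s ∈ H → f g ∈ (H.subgroupOf _).map f →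
      (g : G) ∈ H := by
    rintro H g hs ⟨k, hk, e⟩
    rcases k1 _ _ e.symm with e | e <;> rw [e]
    exacts [hk, mul_mem hk hs]
  have m2 : ∀ {g c : centralizer {s}}, c ^ 3 = 1 → f g * f c = f c * f g → (g : G) * c = c * g :=
    fun hc e => mul_inv_eq_iff_eq_mul.mp (k3 _ _ _ hc hc (mul_inv_eq_iff_eq_mul.mpr e))
  have m3 : ∀ g : centralizer {s}, (g : G) ∈ zpowers q ∨ g * s ∈ zpowers q → f g ∈ zpowers (f q') := by
    rintro g (⟨i, e⟩ | ⟨i, e⟩)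
    · exact ⟨i, (map_zpow f q' i).symm.trans (congrArg f (Subtype.ext e))⟩
    · exact ⟨i, (map_zpow f q' i).symm.trans ((congrArg f (Subtype.ext e : _ = g * s')).trans (by
        rw [map_mul, k2 s' rfl, mul_one]))⟩
  have m4 : ∀ {g a c : centralizer {s}}, (g : G) * a * (g : G)⁻¹ = c →
      f g * f a * (f g)⁻¹ = f c := fun e => by
    rw [← map_inv, ← map_mul, ← map_mul]; exact congrArg f (Subtype.ext e)
  obtain ⟨K, hK, e1, e2, -⟩ := bs (p := f p') (q := f q') (b := f ⟨b, hbY⟩)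
    (H₁ := (H₁.subgroupOf _).map f) (H₂ := (H₂.subgroupOf _).map f)
    (by rw [← map_pow, p3, map_one]) (orderOf_eq_prime (by rw [← map_pow, q3, map_one]) fun e => by
      have := k3 1 q' 1 q3 (one_pow 3) (by simp [e])
      simp only [coe_one, one_mul, inv_one, mul_one] at this
      simp [show q = 1 from this] at hq)
    ⟨q', hq₁, rfl⟩ ⟨q', hq₂, rfl⟩ (fun e => a1 (m1 s1 e))
    (by rintro _ ⟨h, hh, rfl⟩; rw [← map_mul, ← map_mul]; exact congrArg f (Subtype.ext (a2 h hh)))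
    (fun g e => by
      obtain ⟨g, rfl⟩ := hf g
      obtain ⟨i, h, hh, e⟩ := a3 g g.2 (m2 p3 e)
      exact ⟨i, _, ⟨⟨h, h1 hh⟩, hh, rfl⟩, by
        rw [← map_pow, ← map_mul]; exact congrArg f (Subtype.ext e)⟩)
    (by rintro _ ⟨h, hh, rfl⟩ e; exact m3 h (a4 h hh (m2 q3 e)))
    (by obtain ⟨h, hh, e⟩ := a5; exact ⟨_, ⟨⟨h, h1 hh⟩, hh, rfl⟩, map_inv f q' ▸ m4 e⟩)
    (fun e => b1 (m1 (g := p' * q') s2 (by rwa [map_mul])))
    (by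
      rintro _ ⟨h, hh, rfl⟩
      simp only [← map_mul]; exact congrArg f (Subtype.ext (b2 h hh)))
    (fun g e => by
      obtain ⟨g, rfl⟩ := hf g
      obtain ⟨i, h, hh, e⟩ := b3 g g.2 (m2 u3 (by rwa [map_mul]))
      exact ⟨i, _, ⟨⟨h, h2 hh⟩, hh, rfl⟩, by
        rw [← map_mul, ← map_pow, ← map_mul]; exact congrArg f (Subtype.ext e)⟩)
    (by rintro _ ⟨h, hh, rfl⟩ e; exact m3 h (b4 h hh (m2 q3 e)))
    (by rintro _ ⟨h, hh, rfl⟩ e; exact b5 h hh (k3 _ _ _ q3 (i3 q3) (by rwa [map_inv])))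
    (fun e => by
      obtain ⟨g, e⟩ := isConj_iff.mp e
      obtain ⟨g, rfl⟩ := hf g
      exact c1 g (k3 _ _ _ p3 u3 (by rwa [map_mul])))
    (by obtain ⟨g, hg, e⟩ := c2; exact isConj_iff.mpr ⟨f ⟨g, hg⟩, map_inv f p' ▸ m4 e⟩)
    (by
      obtain ⟨g, hg, e⟩ := c3
      rw [← map_mul, ← map_inv]; exact isConj_iff.mpr ⟨f ⟨g, hg⟩, m4 e⟩)
    (by rw [← map_mul]; exact (congrArg f (Subtype.ext hb)).trans (map_one f))
    (fun k e => by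
      obtain ⟨k, rfl⟩ := hf k
      exact d1 k k.2 (k3 (k * ⟨b, hbY⟩ * k⁻¹) _ _ p3 (i3 p3) (by simpa only [map_mul, map_inv])))
    fun k e => by
      obtain ⟨k, rfl⟩ := hf k
      exact d2 k k.2 (k3 (k * ⟨b, hbY⟩ * k⁻¹) _ _ u3 (i3 u3) (by simpa only [map_mul, map_inv]))
  refine ⟨(K.comap f).map (centralizer {s}).subtype, map_subtype_le _, fun g hg =>
    mem_normalizer_of_conj_mem ?_, ⟨s', by rw [SetLike.mem_coe, mem_comap, k2 s' rfl]; exact one_mem K,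
      rfl⟩, ⟨_, e1, rfl⟩, fun ⟨k, hk, e⟩ => e2 ((Subtype.ext e : k = p') ▸ hk)⟩
  rintro _ ⟨k, hk, rfl⟩
  exact ⟨_, (hK.comap f).conj_mem k hk ⟨g, hg⟩, rfl⟩

theorem cl2 {K : Subgroup G} {s y : G} (ss : s * s = 1) (hs : K ≤ centralizer {s})
    (ys : y ∈ centralizer {s}) (hy : orderOf y = 3) (hn : y ∈ normalizer (K : Set G))
    (h3 : ¬ 3 ∣ Nat.card K) (hf : ∀ k ∈ K, k * y = y * k → k = 1 ∨ k = s) {a k l : G} (ha : a ∈ K)
    (hk : k ∈ K) (hl : l ∈ K) : l * (k * a * k⁻¹ * a⁻¹) * l⁻¹ = k * a * k⁻¹ * a⁻¹ ∨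
      l * (k * a * k⁻¹ * a⁻¹) * l⁻¹ = k * a * k⁻¹ * a⁻¹ * s := by
  obtain ⟨N, hN, k1, k2, k3⟩ := exists_quotC ss
  set f := QuotientGroup.mk' N
  have y3 : (⟨y, ys⟩ : centralizer {s}) ^ 3 = 1 := Subtype.ext (hy ▸ pow_orderOf_eq_one y)
  have := (fpf3 (y := f ⟨y, ys⟩) (K := (K.subgroupOf _).map f) (orderOf_eq_prime
    (by rw [← map_pow, y3, map_one]) fun e => by
      have := k3 1 _ 1 y3 (one_pow 3) (by simp [e])
      simp only [coe_one, one_mul, inv_one, mul_one] at this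
      simp [this] at hy)
    (mem_normalizer_of_conj_mem (by
      rintro _ ⟨k, hk, rfl⟩
      exact ⟨⟨y, ys⟩ * k * ⟨y, ys⟩⁻¹, conj_mem_of_mem_normalizer (N := K) hn hk, by
        simp only [map_mul, map_inv]⟩))
    (fun e => h3 (by
      rw [← Nat.card_congr (subgroupOfEquivOfLe hs).toEquiv]; exact e.trans (card_map_dvd _ f))) (by
      rintro _ ⟨k, hk, rfl⟩ e
      rcases hf k hk (mul_inv_eq_iff_eq_mul.mp (k3 _ _ _ y3 y3 (mul_inv_eq_iff_eq_mul.mpr e))) with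
        e | e
      exacts [(congrArg f (Subtype.ext e)).trans (map_one f), k2 k e])).1
    _ ⟨⟨a, hs ha⟩, ha, rfl⟩ _ ⟨⟨k, hs hk⟩, hk, rfl⟩ _ ⟨⟨l, hs hl⟩, hl, rfl⟩
  exact k1 (⟨l, hs hl⟩ * (⟨k, hs hk⟩ * ⟨a, hs ha⟩ * ⟨k, hs hk⟩⁻¹ * ⟨a, hs ha⟩⁻¹) * ⟨l, hs hl⟩⁻¹)
    (⟨k, hs hk⟩ * ⟨a, hs ha⟩ * ⟨k, hs hk⟩⁻¹ * ⟨a, hs ha⟩⁻¹) (by
      simp only [map_mul, map_inv]; rw [this.eq, mul_inv_cancel_right])

end Cfsg.Agent.P43
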