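import Cfsg.Agent.P43.Wrap
import Cfsg.Agent.Char.SEmb
import Cfsg.Agent.Block.STMain
import Cfsg.Agent.Block.ZStar

/-! Endgames: a subgroup controlling fusion of elements of order three and of an involution. -/

set_option autoImplicit false
set_option maxRecDepth 100000
set_option synthInstance.maxSize 4096

namespace Cfsg.Agent.P43

open Subgroup Cfsg.Agent.Mat Cfsg.Agent.Char Cfsg.Agent.Local L
open scoped Pointwise

attribute [local irreducible] memN r1 r2 r3 z s sg qq eL cmul cinv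
attribute [local instance 10000] List.decidableBAll

variable {G : Type*} [Group G] [Finite G]

theorem dih_even {a b : G} (ha : a * a = 1) (hb : b * b = 1) (h : ¬ (orderOf (a * b)).Coprime 2) :
    ∃ v, v ≠ 1 ∧ a * v = v * a ∧ b * v = v * b ∧
      ∃ k ∈ zpowers (a * b), a * v = k * a * k⁻¹ ∨ a * v = k * b * k⁻¹ := by
  obtain ⟨m, hm⟩ := (Nat.Prime.dvd_iff_not_coprime Nat.prime_two).mpr fun e => h e.symm
  have h0 := orderOf_pos (a * b)
  have ia := inv_eq_of_mul_eq_one_right ha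
  have ib := inv_eq_of_mul_eq_one_right hb
  have h1 : a * (a * b) * a⁻¹ = (a * b)⁻¹ := by rw [← mul_assoc, ha, one_mul, mul_inv_rev, ib]
  have h2 : b * (a * b) * b⁻¹ = (a * b)⁻¹ := by rw [mul_inv_rev, ia, ib, mul_assoc, mul_assoc, hb, mul_one]
  have h3 : ((a * b) ^ m)⁻¹ = (a * b) ^ m := by
    rw [inv_eq_iff_mul_eq_one, ← pow_add, ← two_mul, ← hm, pow_orderOf_eq_one]
  refine ⟨(a * b) ^ m, pow_ne_one_of_lt_orderOf (by omega) (by omega), ?_, ?_, ?_⟩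
  · rw [← mul_inv_eq_iff_eq_mul, ← conj_pow, h1, inv_pow, h3]
  · rw [← mul_inv_eq_iff_eq_mul, ← conj_pow, h2, inv_pow, h3]
  · refine ⟨((a * b) ^ (m / 2))⁻¹, inv_mem (pow_mem (mem_zpowers _) _), ?_⟩
    rw [inv_inv, Block.conj_pow_of_inverts h1, Block.conj_pow_of_inverts h2]
    rcases Nat.even_or_odd' m with ⟨i, rfl | rfl⟩
    · exact Or.inl (by rw [show 2 * i / 2 = i by omega])
    · exact Or.inr (by
        rw [show (2 * i + 1) / 2 = i by omega, pow_succ', ← mul_assoc, ← mul_assoc, ha, one_mul])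

omit [Finite G] in
theorem dih_odd {a b : G} (ha : a * a = 1) (hb : b * b = 1) (h : (orderOf (a * b)).Coprime 2) :
    ∃ k ∈ zpowers (a * b), k * b * a * (k * b)⁻¹ = b ∧ k * b * b * (k * b)⁻¹ = a := by
  obtain ⟨i, hi⟩ := Block.exists_conj_of_odd ha hb h
  have ib := inv_eq_of_mul_eq_one_right hb
  have h2 : b * (a * b) * b⁻¹ = (a * b)⁻¹ := by
    rw [mul_inv_rev, inv_eq_of_mul_eq_one_right ha, ib, mul_assoc, mul_assoc, hb, mul_one]
  have h5 : b * (a * b) ^ i * b⁻¹ = ((a * b) ^ i)⁻¹ := by rw [← conj_pow, h2, inv_pow]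
  have h3 : ((a * b) ^ i)⁻¹ * b * (((a * b) ^ i)⁻¹ * b) = 1 := by
    generalize (a * b) ^ i = W at h5
    nth_rewrite 2 [← h5]
    calc _ = W⁻¹ * (b * b) * W := by group
      _ = 1 := by rw [hb]; group
  have h4 : ((a * b) ^ i)⁻¹ * b * b * (((a * b) ^ i)⁻¹ * b)⁻¹ = a := by
    generalize (a * b) ^ i = W at hi
    rw [← hi]; group
  refine ⟨_, inv_mem (pow_mem (mem_zpowers _) i), ?_, h4⟩
  generalize ((a * b) ^ i)⁻¹ * b = c at h3 h4
  rw [← h4, inv_eq_of_mul_eq_one_right h3]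
  calc _ = c * c * b * (c * c) := by group
    _ = b := by rw [h3]; group

theorem delta {H Y : Subgroup G} {Δ : Set G} (h3 : ∀ u ∈ H, orderOf u = 3 → WC H u)
    (hΔ : ∀ a ∈ Δ, a ∈ H ∧ a ∈ Y ∧ a * a = 1 ∧ WC H a)
    (hinv : ∀ a ∈ Δ, ∀ g ∈ H, g ∈ Y → g * a * g⁻¹ ∈ Δ) {a₀ : G} (h0 : a₀ ∈ Δ)
    (hc : ∀ a ∈ Δ, ∀ a' ∈ Δ, a ≠ a' → a * a' = a' * a → ∀ g ∈ Y, ∀ b ∈ Δ,
      g⁻¹ * (a * a') * g ∈ H → a * a' * (g * b * g⁻¹) = g * b * g⁻¹ * (a * a') → g ∈ H)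
    {u : G} (hu : u ∈ H) (huY : u ∈ Y) (h9 : u ^ 9 = 1) (hf : ∀ a ∈ Δ, u * a ≠ a * u) : Y ≤ H := by
  intro g hg
  by_contra hn
  obtain ⟨b1, b2, b3, b4⟩ := hΔ a₀ h0
  have b5 : g * a₀ * g⁻¹ * (g * a₀ * g⁻¹) = 1 := by rw [conj_mul, b3]; group
  have h1 : ∀ a ∈ Δ, ∃ c ∈ Y, c * a * c⁻¹ = g * a₀ * g⁻¹ ∧ c * (g * a₀ * g⁻¹) * c⁻¹ = a := by
    intro a ha
    obtain ⟨a1, a2, a3, a4⟩ := hΔ a ha
    have hY := mul_mem (mul_mem hg b2) (inv_mem hg)
    have hz := zpowers_le.mpr (mul_mem a2 hY)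
    by_cases h : (orderOf (a * (g * a₀ * g⁻¹))).Coprime 2
    · obtain ⟨k, hk, e⟩ := dih_odd a3 b5 h
      exact ⟨_, mul_mem (hz hk) hY, e⟩
    obtain ⟨v, v1, v2, v3, k, hk, e⟩ := dih_even a3 b5 h
    have v4 := mul_mem a1 (a4.cent a1 v2.symm)
    have v5 : a * (a * v) = v := by rw [← mul_assoc, a3, one_mul]
    refine absurd (hc a ha (a * v) ?_ (fun e => v1 (by simpa using e))
      (by rw [v5, v2, mul_assoc, a3, mul_one]) g hg a₀ h0 (b4.cent b1 ?_) (by rw [v5, v3])) hn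
    · rcases e with e | e
      · exact e ▸ hinv a ha k (a4 k (e ▸ v4)) (hz hk)
      · rw [show k * (g * a₀ * g⁻¹) * k⁻¹ = k * g * a₀ * (k * g)⁻¹ by group] at e
        exact e ▸ hinv a₀ h0 _ (b4 _ (e ▸ v4)) (mul_mem (hz hk) hg)
    · rw [v5]
      calc _ = g⁻¹ * (v * (g * a₀ * g⁻¹)) * g := by group
        _ = _ := by rw [← v3]; group
  let _ : MulAction ↥(H ⊓ Y) Δ :=
    { smul := fun k a => ⟨k * a * (k : G)⁻¹, hinv a a.2 k k.2.1 k.2.2⟩
      one_smul := fun a => Subtype.ext (by change (1 : G) * a * (1 : G)⁻¹ = a; group)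
      mul_smul := fun k l a => Subtype.ext (by
        change (k : G) * l * a * ((k : G) * l)⁻¹ = k * (l * a * (l : G)⁻¹) * (k : G)⁻¹; group) }
  let U := (MulAut.conj g • H).subgroupOf (H ⊓ Y)
  have h2 : MulAction.orbit U (⟨a₀, h0⟩ : Δ) = Set.univ := Set.eq_univ_of_forall fun a => by
    obtain ⟨c, c1, c2, c3⟩ := h1 a₀ h0
    obtain ⟨d, d1, d2, d3⟩ := h1 a a.2
    have e : d * c * a₀ * (d * c)⁻¹ = a := by rw [← d3, ← c2]; group
    refine ⟨⟨⟨d * c, b4 _ (e ▸ (hΔ _ a.2).1), mul_mem d1 c1⟩, (Char.mem_conj_smul_iff _ _ _).mpr ?_⟩,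
      Subtype.ext e⟩
    have e1 := (hΔ _ a.2).2.2.2 (g⁻¹ * d) (by
      rwa [show g⁻¹ * d * a * (g⁻¹ * d)⁻¹ = g⁻¹ * (d * a * d⁻¹) * g by group, d2,
        show g⁻¹ * (g * a₀ * g⁻¹) * g = a₀ by group])
    have e2 := b4 (c * g) (by rwa [show c * g * a₀ * (c * g)⁻¹ = c * (g * a₀ * g⁻¹) * c⁻¹ by group, c3])
    simpa [mul_assoc] using mul_mem e1 e2
  obtain ⟨a, ha⟩ := (Block.isPGroup_zpowers (p := 3) (k := 2) (z := (⟨u, hu, huY⟩ : ↥(H ⊓ Y)))
    (Subtype.ext h9)).nonempty_fixed_point_of_prime_not_dvd_card Δ fun e => by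
      have := index_dvd_card (MulAction.stabilizer U (⟨a₀, h0⟩ : Δ))
      rw [MulAction.index_stabilizer, h2, Set.ncard_univ] at this
      obtain ⟨p, hp⟩ := exists_prime_orderOf_dvd_card' 3 (e.trans this)
      refine hn (inv_mem_iff.mp (h3 _ p.1.2.1 (by simpa using hp) g⁻¹ ?_))
      simpa using (Char.mem_conj_smul_iff _ _ _).mp p.2
  exact hf a a.2 (mul_inv_eq_iff_eq_mul.mp (congrArg Subtype.val (ha ⟨_, mem_zpowers _⟩)))

omit [Finite G] in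
theorem wc_of_i1 {H : Subgroup G} {c : G} (h3 : ∀ u ∈ H, orderOf u = 3 → WC H u)
    (hc : c * c = 1) (hC : centralizer {c} ≤ H)
    (hi : ∀ i ∈ H, i * i = 1 → ∃ u ∈ H, orderOf u = 3 ∧ i * u = u * i) : WC H c := fun g hg => by
  obtain ⟨u, h1, h2, e⟩ := hi _ hg (by rw [conj_mul, hc]; group)
  refine inv_mem_iff.mp (h3 u h1 h2 _ (hC (mem_centralizer_singleton_iff.mpr ?_)))
  calc _ = g⁻¹ * (u * (g * c * g⁻¹)) * g := by group
    _ = _ := by rw [← e]; group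

/-- The involutions used for the centraliser of `n`. -/
def DN {M : Type*} [Group M] (s n a : M) : Prop := IsConj s a ∧ a * n = n * a ∧
  ¬ IsConj s (a * n) ∧ ∃ b, IsConj s b ∧ IsConj s (b * (a * n))

/-- Facts on the involutions of a model. -/
structure ED {M : Type*} [Group M] (s n x u : M) : Prop where
  ss : s * s = 1
  i1 : ∀ m : M, m * m = 1 → ∃ p, orderOf p = 3 ∧ m * p = p * m
  f2 : ∀ a, IsConj s a → s * a = a * s → s = a ∨ IsConj s (s * a) ∨ IsConj n (s * a)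
  f3 : ∀ a, DN s n a → ∀ b, DN s n b → a * b = b * a →
    a = b ∨ IsConj s (a * b) ∨ IsConj s (a * b * n)
  ex : ∃ a, DN s n a
  x9 : x ^ 9 = 1
  xn : x * n = n * x
  f4 : ∀ a, DN s n a → x * a ≠ a * x
  u9 : u ^ 9 = 1
  f5 : ∀ a, IsConj s a → u * a ≠ a * u

theorem ED.top {M : Type*} [Group M] {s n x u : M} (h : ED s n x u) {f : M →* G}
    (hf : Function.Injective f) (h3 : ∀ u ∈ f.range, orderOf u = 3 → WC f.range u)
    (hs : centralizer {f s} ≤ f.range) : f.range = ⊤ := by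
  have h1 : ∀ a, IsConj s a → f a * f a = 1 ∧ WC f.range (f a) := fun a ha => by
    obtain ⟨k, rfl⟩ := isConj_iff.mp ha
    refine ⟨by rw [← map_mul, conj_mul, h.ss]; simp, WC.of_hc (x := f s) (wc_of_i1 h3
      (by rw [← map_mul, h.ss, map_one]) hs ?_) ⟨f k, ⟨k, rfl⟩, by simp⟩⟩
    rintro _ ⟨m, rfl⟩ e
    obtain ⟨p, h1, h2⟩ := h.i1 m (hf (by rw [map_mul, e, map_one]))
    exact ⟨f p, ⟨p, rfl⟩, (orderOf_injective f hf p).trans h1, by rw [← map_mul, h2, map_mul]⟩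
  have cm : ∀ {a b}, f a * f b = f b * f a → a * b = b * a := fun e => hf (by simpa only [map_mul])
  have h2 : centralizer {f n} ≤ f.range := by
    obtain ⟨a₀, h0⟩ := h.ex
    refine delta (Δ := f '' {a | DN s n a}) h3 ?_ ?_ ⟨a₀, h0, rfl⟩ ?_ ⟨x, rfl⟩
      (mem_centralizer_singleton_iff.mpr (by rw [← map_mul, h.xn, map_mul]))
      (by rw [← map_pow, h.x9, map_one]) ?_
    · rintro _ ⟨a, ha, rfl⟩
      exact ⟨⟨a, rfl⟩, mem_centralizer_singleton_iff.mpr (by rw [← map_mul, ha.2.1, map_mul]),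
        h1 a ha.1⟩
    · rintro _ ⟨a, ⟨a1, a2, a3, b, a4, a5⟩, rfl⟩ _ ⟨k, rfl⟩ hk
      have e : k * a * k⁻¹ * n = k * (a * n) * k⁻¹ := by
        rw [mul_assoc, (Commute.inv_left (cm (mem_centralizer_singleton_iff.mp hk))).eq]; group
      refine ⟨k * a * k⁻¹, ⟨a1.trans (isConj_cj _ _), ?_, fun e' => a3 (e'.trans ?_), k * b * k⁻¹,
        a4.trans (isConj_cj _ _), ?_⟩, by simp⟩
      · rw [e, a2, ← mul_assoc, cm (mem_centralizer_singleton_iff.mp hk)]; group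
      · rw [e]; exact (isConj_cj _ _).symm
      · rw [e, conj_mul]; exact a5.trans (isConj_cj _ _)
    · rintro _ ⟨a, ha, rfl⟩ _ ⟨b, hb, rfl⟩ hab e g hg - - h4 -
      rcases h.f3 a ha b hb (cm e) with rfl | e | e
      · exact absurd rfl hab
      · exact inv_mem_iff.mp ((h1 _ e).2 _ (by rwa [map_mul, inv_inv]))
      · refine inv_mem_iff.mp ((h1 _ e).2 _ ?_)
        rw [map_mul, map_mul, inv_inv, mul_assoc, mul_assoc, ← mem_centralizer_singleton_iff.mp hg,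
          ← mul_assoc, ← mul_assoc]
        exact mul_mem h4 ⟨n, rfl⟩
    · rintro _ ⟨a, ha, rfl⟩ e
      exact h.f4 a ha (cm e)
  refine eq_top_iff.mpr (delta (Δ := f '' {a | IsConj s a}) h3 ?_ ?_ ⟨s, IsConj.refl s, rfl⟩ ?_
    ⟨u, rfl⟩ (mem_top _) (by rw [← map_pow, h.u9, map_one]) ?_)
  · rintro _ ⟨a, ha, rfl⟩
    exact ⟨⟨a, rfl⟩, mem_top _, h1 a ha⟩
  · rintro _ ⟨a, ha, rfl⟩ _ ⟨k, rfl⟩ -
    exact ⟨k * a * k⁻¹, ha.trans (isConj_cj _ _), by simp⟩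
  · rintro _ ⟨a, ha, rfl⟩ _ ⟨b, hb, rfl⟩ hab e g - _ ⟨c, hc, rfl⟩ h4 h5
    obtain ⟨k, rfl⟩ := isConj_iff.mp ha
    obtain ⟨b, rfl⟩ : ∃ b', b = k * b' * k⁻¹ := ⟨k⁻¹ * b * k, by group⟩
    have h6 := cm e
    rw [← map_mul, conj_mul] at h4 h5
    rcases h.f2 b (hb.trans (isConj_cj _ _).symm) (by simpa only [conj_mul, mul_left_inj,
      mul_right_inj] using h6) with rfl | e | e
    · exact absurd rfl hab
    · exact inv_mem_iff.mp ((h1 _ (e.trans (isConj_cj k _))).2 _ (by rwa [inv_inv]))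
    · obtain ⟨l, hl⟩ := isConj_iff.mp (e.trans (isConj_cj k _))
      rw [← hl, map_mul, map_mul, map_inv] at h5
      refine (f.range.mul_mem_cancel_left (inv_mem ⟨l, rfl⟩)).mp
        ((h1 c hc).2 _ (h2 (mem_centralizer_singleton_iff.mpr ?_)))
      calc _ = (f l)⁻¹ * (g * f c * g⁻¹ * (f l * f n * (f l)⁻¹)) * f l := by group
        _ = _ := by rw [← h5]; group
  · rintro _ ⟨a, ha, rfl⟩ e
    exact h.f5 a ha (cm e)

variable {φ : L →* G}

theorem Base.wc3 (h : Base φ) {H : Subgroup G} (hL : ∀ l, φ l ∈ H)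
    (hN : normalizer (JJ φ : Set G) ≤ H)
    (hC : ∀ v ∈ [(1, 0, 0), (0, 2, 2), (1, 2, 2), (0, 1, 2)], centralizer {ee φ v} ≤ H) :
    ∀ u ∈ H, orderOf u = 3 → WC H u := by
  have h1 : ∀ v, v ≠ 0 → ∀ g, g * ee φ v = ee φ v * g → g ∈ H := fun v hv g hg => by
    obtain ⟨p, hp, e⟩ := (by decide +kernel : ∀ v : V27, v ≠ 0 → ∃ p ∈ [(2, 2, 2), (1, 0, 0),
      (0, 2, 2), (1, 2, 2), (0, 1, 2)], cls v = cls p ∨ cls (-v) = cls p) v hv
    obtain ⟨l, hl⟩ : ∃ l, φ l * g * (φ l)⁻¹ * ee φ p = ee φ p * (φ l * g * (φ l)⁻¹) := by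
      rcases e with e | e <;> obtain ⟨a, ha, rfl⟩ := cls_act _ _ e <;>
        obtain ⟨l, hl⟩ := real6' φ ha <;> refine ⟨l, ?_⟩ <;> rw [← hl, conj_mul, conj_mul]
      · rw [hg]
      · rw [h.par.neg, (Commute.inv_right hg).eq]
    refine (H.mul_mem_cancel_left (hL l)).mp ((H.mul_mem_cancel_right (inv_mem (hL l))).mp ?_)
    rcases List.mem_cons.mp hp with rfl | hp
    · obtain ⟨k, e⟩ := h.cent _ (ee_z (φ := φ) ▸ hl)
      exact e ▸ hL k
    · exact hC p hp (mem_centralizer_singleton_iff.mpr hl)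
  intro u hu ho g hg
  have h2 : φ.range ≤ H := by rintro _ ⟨l, rfl⟩; exact hL l
  have h3 : u ^ 3 = 1 := ho ▸ pow_orderOf_eq_one u
  obtain ⟨k, hk, v, e⟩ := h.exists_conj h2 hu h3
  obtain ⟨k', hk', v', e'⟩ := h.exists_conj h2 hg (by rw [conj_pow, h3]; group)
  obtain ⟨m, -, h4, h5⟩ := h.fusion le_top (mem_top (k' * g * k⁻¹)) (u := v) (v := v')
    (by rw [← e, ← e']; group)
  have := h1 v (by
    rintro rfl
    rw [h.par.zero, conj_eq_one_iff] at e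
    simp [e] at ho) (m⁻¹ * (k' * g * k⁻¹)) (by
    calc _ = m⁻¹ * (k' * (g * u * g⁻¹) * k'⁻¹) * (k' * g * k⁻¹) := by rw [← e]; group
      _ = _ := by rw [e', ← h5]; group)
  simpa [mul_assoc] using mul_mem (mul_mem (inv_mem hk') (mul_mem (hN h4) this)) hk

theorem Base.le_of_D (h : Base φ) {H K : Subgroup G} (hL : ∀ l, φ l ∈ H)
    (h3 : ∀ u ∈ H, orderOf u = 3 → WC H u) (hK : ¬ 3 ∣ Nat.card K)
    (hN : DD φ ≤ normalizer (K : Set G)) : K ≤ H := by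
  have hp := h.par
  refine le_of_centralizer_le_of_rank_two Nat.prime_three (hN ((h.mem_D (v := (1, 0, 0))).mpr rfl))
    (hN ((h.mem_D (v := (2, 2, 2))).mpr rfl)) (hp.comm _ (hp.mem' _) _ (hp.mem' _))
    (hp.cube V27_three _) (orderOf_eq_prime (hp.cube V27_three _) (hp.ne_one (by decide)))
    (by rw [par_zp hp V27_three (by decide)]; decide) hK fun e he h1 g hg => ?_
  obtain ⟨v, rfl⟩ := (closure_le (JJ φ)).mpr (by rintro _ (rfl | rfl) <;> exact hp.mem' _) he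
  exact (h3 _ (hL _) (orderOf_eq_prime (hp.cube V27_three v) h1)).cent (hL _)
    (mem_centralizer_singleton_iff.mp hg.2)

theorem Base.cent_s_le (h : Base φ) {H M K : Subgroup G} (hL : ∀ l, φ l ∈ H)
    (h3 : ∀ u ∈ H, orderOf u = 3 → WC H u) (h1 : centralizer {φ s} ≤ DD φ ⊔ M)
    (h2 : centralizer {φ s} ≤ normalizer (K : Set G)) (hK : ¬ 3 ∣ Nat.card K)
    (hy : ∀ g ∈ M, g * ee φ (1, 2, 2) * g⁻¹ * (ee φ (1, 2, 2))⁻¹ ∈ K ∨
      g * ee φ (1, 2, 2) * g⁻¹ * ee φ (1, 2, 2) ∈ K) : centralizer {φ s} ≤ H := by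
  have h4 := h.le_of_D hL h3 hK (inf_le_right.trans h2)
  refine h1.trans (sup_le (by rintro _ ⟨⟨v, rfl⟩, -⟩; exact hL _) fun g hg => h3 _ (hL _)
    (orderOf_eq_prime (h.par.cube V27_three (1, 2, 2)) (h.par.ne_one (by decide))) g ?_)
  rcases hy g hg with e | e
  exacts [(H.mul_mem_cancel_right (inv_mem (hL _))).mp (h4 e),
    (H.mul_mem_cancel_right (hL _)).mp (h4 e)]

end Cfsg.Agent.P43
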