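import Cfsg.Agent.P43.Delta

/-! Checkers for the facts on involutions of a coded permutation group. -/

set_option autoImplicit false

namespace Cfsg.Agent.P43

open Subgroup Cfsg.Agent.Mat Cfsg.Agent.Char Cfsg.Agent.Local
open scoped Pointwise

attribute [local irreducible] cmul cinv pack memN

variable {n : ℕ} [hn : Fact (n ≤ 256)] {ms : List (CP n)}

/-- Commutation of codes. -/
def cmB (n a b : ℕ) : Bool := Nat.beq (cmul n a b) (cmul n b a)

theorem code_eq {a b : cl ms} : a.1.1 = b.1.1 ↔ a = b :=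
  ⟨fun e => Subtype.ext (Subtype.ext e), fun e => e ▸ rfl⟩

theorem cmB_iff {a b : cl ms} : cmB n a.1.1 b.1.1 = true ↔ a * b = b * a :=
  Nat.beq_eq.to_iff.trans (code_eq (a := a * b) (b := b * a))

/-- The check that a list of codes is a conjugacy class. -/
def clsChk (ms : List (CP n)) (x : CP n) (cs : List ℕ) (W : List (List ℕ)) : Bool :=
  decide (cs = W.map fun w => (ev ms w * x * (ev ms w)⁻¹).1) && memN x.1 cs &&
    allL (fun c => allL (fun g : CP n => memN (cmul n (cmul n g.1 c) (cinv n g.1)) cs) ms) cs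

theorem cls_of_words {x : cl ms} {cs : List ℕ} {W : List (List ℕ)}
    (h : cs = W.map fun w => (ev ms w * x.1 * (ev ms w)⁻¹).1) :
    ∀ c ∈ cs, ∃ y : cl ms, IsConj x y ∧ y.1.1 = c := fun c hc => by
  obtain ⟨w, -, rfl⟩ := List.mem_map.mp (h ▸ hc)
  exact ⟨_, isConj_cj (el ms w) x, rfl⟩

theorem cls_iff {x : cl ms} {cs : List ℕ} {W : List (List ℕ)} (h : clsChk ms x.1 cs W = true)
    (y : cl ms) : IsConj x y ↔ y.1.1 ∈ cs := by
  simp only [clsChk, Bool.and_eq_true, decide_eq_true_eq, memN_iff, allL_iff] at h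
  refine ⟨fun hy => ?_, fun hy => ?_⟩
  · obtain ⟨g, rfl⟩ := isConj_iff.mp hy
    obtain ⟨w, rfl⟩ := el_surj g
    change (ev ms w * x.1 * (ev ms w)⁻¹).1 ∈ cs
    clear hy
    induction w with
    | nil => simpa [ev] using h.1.2
    | cons a w ih =>
      rw [ev, show ms.getD a 1 * ev ms w * x.1 * (ms.getD a 1 * ev ms w)⁻¹ =
        ms.getD a 1 * (ev ms w * x.1 * (ev ms w)⁻¹) * (ms.getD a 1)⁻¹ by group,
        List.getD_eq_getElem?_getD]
      cases e : ms[a]? with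
      | none => simpa using ih
      | some g => exact h.2 _ ih g (List.mem_of_getElem? e)
  · obtain ⟨y', h1, h2⟩ := cls_of_words h.1.1 _ hy
    exact code_eq.mp h2 ▸ h1

/-- The check that every involution centralises an element of order three. -/
def i1Chk (ms mt : List (CP n)) (tw : List (List ℕ)) (ct pl : List ℕ) (Wp : List (List ℕ)) : Bool :=
  decide (mt = tw.map (ev ms)) && decide (pl = Wp.map fun w => (ev ms w).1) &&
    all2 Nat.blt ct.dropLast ct.tail &&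
    allL (fun p => Nat.beq (cmul n p (cmul n p p)) (pack id n) && !Nat.beq p (pack id n)) pl &&
    allL (fun c => !Nat.beq (cmul n c c) (pack id n) || anyL (cmB n c) pl) ct

theorem i1_of_chk {mt : List (CP n)} {tw Wt Wp : List (List ℕ)} {ct pl : List ℕ}
    (h1 : enumChk mt ct Wt = true) (h2 : i1Chk ms mt tw ct pl Wp = true) {k m : ℕ}
    (h3 : ct.length = 2 ^ k) (h4 : Nat.card (cl ms) = 2 ^ k * m) (h5 : ¬ 2 ∣ m) (a : cl ms)
    (ha : a * a = 1) : ∃ p, orderOf p = 3 ∧ a * p = p * a := by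
  simp only [i1Chk, Bool.and_eq_true, decide_eq_true_eq, allL_iff, anyL_iff, Bool.or_eq_true,
    Bool.not_eq_true', Nat.beq_eq, ← Bool.not_eq_true] at h2
  obtain ⟨⟨⟨⟨b1, b2⟩, b3⟩, b4⟩, b5⟩ := h2
  have := Fact.mk Nat.prime_two
  have c1 : cl mt ≤ cl ms := cl_le fun x hx => by
    obtain ⟨w, -, rfl⟩ := List.mem_map.mp (b1 ▸ hx)
    exact ev_mem_cl ms w
  have c2 := (card_of_enumChk h1 b3).trans h3
  have c3 : IsSylowIn 2 (cl mt) (cl ms) := ⟨c1, IsPGroup.of_card c2, by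
    have := card_mul_relIndex c1
    rw [c2, h4, mul_right_inj' (by positivity)] at this
    rwa [this]⟩
  obtain ⟨g, hg, e⟩ := c3.exists_le_conj (Block.isPGroup_zpowers (k := 1) (z := a.1) (by
    rw [pow_one, sq]; exact congrArg Subtype.val ha)) (zpowers_le.mpr a.2)
  obtain ⟨g, rfl⟩ : ∃ g' : cl ms, g'.1 = g := ⟨⟨g, hg⟩, rfl⟩
  obtain ⟨b, rfl⟩ : ∃ b, a = g * b * g⁻¹ := ⟨g⁻¹ * a * g, by group⟩
  have c4 : b.1 ∈ cl mt := by
    simpa [mul_assoc] using (Char.mem_conj_smul_iff _ _ _).mp (e (mem_zpowers _))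
  have c5 : b.1.1 ∈ ct := by
    obtain ⟨c, hc, e'⟩ := List.mem_pmap.mp ((enumOf mt ct h1).all ⟨_, c4⟩)
    exact (congrArg (·.1.1) e' : c = b.1.1) ▸ hc
  rw [conj_mul, conj_eq_one_iff] at ha
  obtain ⟨p, hp, e2⟩ := (b5 _ c5).resolve_left (not_not.mpr ((code_eq (a := b * b) (b := 1)).mpr ha))
  have b6 := b4 p hp
  obtain ⟨q, rfl⟩ : ∃ q : cl ms, q.1.1 = p := by
    obtain ⟨w, -, rfl⟩ := List.mem_map.mp (b2 ▸ hp)
    exact ⟨el ms w, rfl⟩
  exact ⟨g * q * g⁻¹, (Local.orderOf_conj' _ _).trans (orderOf_eq_prime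
    ((pow_three _).trans ((code_eq (a := q * (q * q)) (b := 1)).mp b6.1))
      fun e => b6.2 ((code_eq (b := 1)).mpr e)), by rw [conj_mul, conj_mul, cmB_iff.mp e2]⟩

/-- The check for the set `DN`. -/
def dnB (n : ℕ) (cs : List ℕ) (N c : ℕ) : Bool := cmB n c N && !memN (cmul n c N) cs &&
  anyL (fun b => memN (cmul n b (cmul n c N)) cs) cs

/-- The check for `ED`. -/
def edChk (n : ℕ) (cs cn D : List ℕ) (S N X U : ℕ) : Bool :=
  allL (fun c => (!cmB n S c || Nat.beq S c || memN (cmul n S c) cs || memN (cmul n S c) cn) &&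
    (memN c D || !dnB n cs N c) && !cmB n U c) cs &&
  anyL (fun c => memN c cs && dnB n cs N c) D &&
  allL (fun a => !cmB n X a && allL (fun b => !cmB n a b || Nat.beq a b || memN (cmul n a b) cs ||
    memN (cmul n (cmul n a b) N) cs) D) D

theorem ed_of_chk {s m x u : cl ms} {cs cn D : List ℕ} {W Wn : List (List ℕ)}
    (h1 : clsChk ms s.1 cs W = true) (h2 : cn = Wn.map fun w => (ev ms w * m.1 * (ev ms w)⁻¹).1)
    (h3 : edChk n cs cn D s.1.1 m.1.1 x.1.1 u.1.1 = true) (ss : s * s = 1) (x9 : x ^ 9 = 1)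
    (xn : x * m = m * x) (u9 : u ^ 9 = 1)
    (i1 : ∀ a : cl ms, a * a = 1 → ∃ p, orderOf p = 3 ∧ a * p = p * a) : ED s m x u := by
  have a1 := cls_iff h1
  have a0 : ∀ c ∈ cs, ∃ y : cl ms, y.1.1 = c := fun c hc => by
    simp only [clsChk, Bool.and_eq_true, decide_eq_true_eq] at h1
    exact (cls_of_words h1.1.1 c hc).imp fun _ => And.right
  have a2 : ∀ a, IsConj s a → (dnB n cs m.1.1 a.1.1 = true ↔ DN s m a) := fun a ha => by
    simp only [dnB, DN, Bool.and_eq_true, cmB_iff, Bool.not_eq_true', ← Bool.not_eq_true, memN_iff,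
      anyL_iff, ha, true_and, a1, and_assoc]
    refine and_congr_right fun _ => and_congr_right fun _ => ⟨fun ⟨c, hc, e⟩ => ?_,
      fun ⟨b, hb, e⟩ => ⟨_, hb, e⟩⟩
    obtain ⟨b, rfl⟩ := a0 c hc
    exact ⟨b, hc, e⟩
  simp only [edChk, Bool.and_eq_true, allL_iff, anyL_iff, Bool.or_eq_true, Bool.not_eq_true',
    ← Bool.not_eq_true, memN_iff, Nat.beq_eq] at h3
  obtain ⟨⟨b1, c, -, b2, b3⟩, b4⟩ := h3
  have a3 : ∀ a, DN s m a → a.1.1 ∈ D := fun a ha =>
    (b1 _ ((a1 a).mp ha.1)).1.2.resolve_right (not_not.mpr ((a2 a ha.1).mpr ha))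
  refine ⟨ss, i1, fun a ha e => ?_, fun a ha b hb e => ?_, ?_, x9, xn,
    fun a ha e => (b4 _ (a3 a ha)).1 (cmB_iff.mpr e), u9,
    fun a ha e => (b1 _ ((a1 a).mp ha)).2 (cmB_iff.mpr e)⟩
  · rcases (b1 _ ((a1 a).mp ha)).1.1 with ((e' | e') | e') | e'
    exacts [absurd (cmB_iff.mpr e) e', Or.inl (code_eq.mp e'), Or.inr (Or.inl ((a1 _).mpr e')),
      Or.inr (Or.inr (by
        obtain ⟨y, h4, h5⟩ := cls_of_words h2 _ e'
        exact (code_eq (b := s * a)).mp h5 ▸ h4))]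
  · rcases (b4 _ (a3 a ha)).2 _ (a3 b hb) with ((e' | e') | e') | e'
    exacts [absurd (cmB_iff.mpr e) e', Or.inl (code_eq.mp e'), Or.inr (Or.inl ((a1 _).mpr e')),
      Or.inr (Or.inr ((a1 _).mpr e'))]
  · obtain ⟨a, rfl⟩ := a0 c b2
    exact ⟨a, (a2 a ((a1 a).mpr b2)).mp b3⟩

end Cfsg.Agent.P43
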