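import Cfsg.Agent.P43.Delta

/-! The cases in which `z` is weakly closed in `J`. -/

set_option autoImplicit false
set_option maxRecDepth 100000
set_option synthInstance.maxSize 4096

namespace Cfsg.Agent.P43

open Subgroup Cfsg.Agent.Mat Cfsg.Agent.Char Cfsg.Agent.Local L
open scoped Pointwise

attribute [local irreducible] memN r1 r2 r3 z s sg qq eL cmul cinv
attribute [local instance 10000] List.decidableBAll

/-- The model of `t`. -/
def t0 : CP 28 := ev msW [8]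

theorem La_facts : (∀ a, inS a → a ^ 3 = 1 ∨ a ^ 3 = z ∨ a ^ 3 = z⁻¹) ∧
    (∀ l : L, l * s = s * l → (inJ (l * r1 * l⁻¹) → inJ (l ^ 4) ∧
      ∀ v : V27, v.2.1 = v.2.2 → l * eL v = eL v * l) ∧
      (r1⁻¹ * l * r1⁻¹ = l * r1⁻¹ * l → l * r3⁻¹ * l = r3⁻¹ * l * r3⁻¹ →
        ∃ v ∈ [(0, 0, 0), (0, 2, 2), (0, 1, 1)], eL v * l * (eL v)⁻¹ = r2⁻¹)) ∧
    (∀ l : L, (l * s * l⁻¹ * s = s * (l * s * l⁻¹) → l * s * l⁻¹ = s) ∧
      r1 * sg * (l * s * l⁻¹) ≠ l * s * l⁻¹ * (r1 * sg)) ∧ (r1 * sg) ^ 9 = 1 ∧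
    (∀ l : L, l.1 * t0 * (l.1 * t0) = 1 → ∃ w ∈ w12, l.1 * (t0 * (el msL w * eL (0, 1, 2) *
      (el msL w)⁻¹).1 * t0⁻¹) * l.1⁻¹ = (el msL w * eL (0, 1, 2) * (el msL w)⁻¹).1) ∧
    ∀ r ∈ [r1, r2, r3], t0 * r.1 * t0⁻¹ = r⁻¹.1 := by decide +kernel

variable {G : Type*} [Group G] [Finite G]

theorem len1 {D Y : Subgroup G} (hD : IsSylowIn 3 D Y) (h9 : Nat.card D = 9)
    (h3 : ∀ d ∈ D, d ^ 3 = 1) (hc : ∀ a ∈ D, ∀ b ∈ D, a * b = b * a)
    (hf : ∀ g ∈ Y, ∀ x ∈ D, g * x * g⁻¹ ∈ D → g * x * g⁻¹ = x ∨ g * x * g⁻¹ = x⁻¹)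
    {τ : G} (hτ : τ ∈ Y) (hi : ∀ x ∈ D, τ * x * τ⁻¹ = x⁻¹) :
    ∃ K ≤ Y, normalizer (Y : Set G) ≤ normalizer (K : Set G) ∧ ¬ 3 ∣ Nat.card K ∧
      ∀ g ∈ Y, ∀ x ∈ D, ∃ d ∈ D, d⁻¹ * (g * x * g⁻¹) ∈ K := by
  have h1 : Nat.card hD.toSylow = 9 := (Nat.card_congr (subgroupOfEquivOfLe hD.le).toEquiv).trans h9
  have h2 : Block.STH hD.toSylow := ⟨by norm_num,
    ⟨⟨fun a b => Subtype.ext (Subtype.ext (hc _ a.2 _ b.2))⟩⟩, by omega,
    fun g x hx e => (hf g⁻¹ (inv_mem g.2) x hx (by rw [inv_inv]; exact e)).imp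
      (fun e => Subtype.ext (by simpa using e)) fun e => Subtype.ext (by simpa using e),
    ⟨τ, hτ⟩, fun x hx => Subtype.ext (hi x hx)⟩
  obtain ⟨h4, ⟨e⟩⟩ := h2.map (QuotientGroup.mk'_surjective (pPrimeCore 3 Y))
    (by rw [QuotientGroup.ker_mk']; exact coprime_card_pPrimeCore 3)
  have h5 := h4.normal (fun hc => by
    obtain ⟨g, hg⟩ := (e.isCyclic.2 hc).exists_ofOrder_eq_natCard
    have := orderOf_dvd_of_pow_eq_one (x := g) (n := 3) (Subtype.ext (Subtype.ext (h3 _ g.2)))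
    rw [hg, h1] at this
    omega) (pPrimeCore_quotient_eq_bot 3)
  refine ⟨(pPrimeCore 3 Y).map Y.subtype, map_subtype_le _, fun g hg =>
    mem_normalizer_of_conj_mem ?_, ?_, fun g hg x hx => ?_⟩
  · rintro _ ⟨k, hk, rfl⟩
    exact ⟨_, (characteristic_iff_map_le.mp (Block.pPrimeCore_characteristic 3)
      (Y.normalizerMonoidHom ⟨g, hg⟩)) ⟨k, hk, rfl⟩, rfl⟩
  · rw [card_map_of_injective Y.subtype_injective]
    exact (Nat.Prime.coprime_iff_not_dvd Nat.prime_three).mp (coprime_card_pPrimeCore 3).symm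
  · obtain ⟨d, hd, e⟩ := h5.conj_mem _ ⟨⟨x, hD.le hx⟩, hx, rfl⟩ (QuotientGroup.mk' _ ⟨g, hg⟩)
    exact ⟨d, hd, d⁻¹ * (⟨g, hg⟩ * ⟨x, hD.le hx⟩ * ⟨g, hg⟩⁻¹), QuotientGroup.eq.mp (by exact e), rfl⟩

theorem exists_index_three {X : Subgroup G} (h1 : ∀ a b, a * b * a⁻¹ * b⁻¹ ∈ X)
    (h2 : ∀ a, (orderOf a).Coprime 3 → a ∈ X) (h3 : X ≠ ⊤) :
    ∃ N : Subgroup G, N.Normal ∧ N.index = 3 := by
  have h4 : ∀ N, X ≤ N → N.Normal := fun N hN => ⟨fun n hn g => by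
    simpa using mul_mem (hN (h1 g n)) hn⟩
  have := h4 X le_rfl
  obtain ⟨k, hk⟩ := IsPGroup.iff_card.mp (show IsPGroup 3 (G ⧸ X) from fun q => by
    obtain ⟨g, rfl⟩ := QuotientGroup.mk'_surjective X q
    refine ⟨(orderOf g).factorization 3, (map_pow _ _ _).symm.trans
      ((QuotientGroup.eq_one_iff _).mpr (h2 _ ?_))⟩
    rw [orderOf_pow_of_dvd (by positivity) (Nat.ordProj_dvd _ _)]
    exact (Nat.coprime_ordCompl Nat.prime_three (orderOf_pos g).ne').symm)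
  obtain _ | k := k
  · exact absurd (index_eq_one.mp hk) h3
  obtain ⟨K, hK⟩ := Sylow.exists_subgroup_card_pow_prime 3 (hk ▸ pow_dvd_pow 3 k.le_succ :
    3 ^ k ∣ Nat.card (G ⧸ X))
  have h5 := K.card_mul_index
  rw [hK, hk, pow_succ, mul_right_inj' (by positivity)] at h5
  exact ⟨K.comap (QuotientGroup.mk' X), h4 _ fun x hx => by
    rw [mem_comap, (QuotientGroup.eq_one_iff x).mpr hx |> (show QuotientGroup.mk' X x = 1 from ·)]
    exact one_mem K, (K.index_comap_of_surjective (QuotientGroup.mk'_surjective X)).trans h5⟩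

variable {φ : L →* G} {t : G}

theorem Base.case1a (h : Base φ) (hr : ∀ g, g * φ z * g⁻¹ ≠ (φ z)⁻¹)
    (hN : ∀ g ∈ normalizer (JJ φ : Set G), g * φ z = φ z * g) :
    ∃ N : Subgroup G, N.Normal ∧ N.index = 3 := by
  obtain ⟨f, f1, -⟩ := exists_homL (G := Multiplicative (ZMod 3)) (a := .ofAdd 1) (b := .ofAdd 1)
    (c := .ofAdd 1) (by decide) (by decide) (by decide) rfl rfl rfl
  have key : ∀ g a b, inS a → inS b → g * φ a * g⁻¹ = φ b → ∃ l, l * a * l⁻¹ = b := by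
    intro g a b ha hb e
    have e3 : g * φ (a ^ 3) * g⁻¹ = φ (b ^ 3) := by rw [map_pow, map_pow, ← e, conj_pow]
    have h1 : g * φ z * g⁻¹ = φ z → ∃ l, l * a * l⁻¹ = b := fun e' => by
      obtain ⟨l, rfl⟩ := h.cent g (mul_inv_eq_iff_eq_mul.mp e')
      exact ⟨l, h.inj ((map_cj φ rfl).symm.trans e)⟩
    have hz : φ z ≠ 1 := fun e => by simpa [e] using h.oz
    rcases La_facts.1 a ha with a3 | a3 | a3 <;> rcases La_facts.1 b hb with b3 | b3 | b3 <;>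
      simp only [a3, b3, map_one, map_inv, ← conj_inv, inv_inj, mul_one, mul_inv_cancel,
        conj_eq_one_iff, inv_eq_one, @eq_comm _ (1 : G), hz] at e3
    · obtain ⟨k, -, hk⟩ := cube a a3
      obtain ⟨k', -, hk'⟩ := cube b b3
      obtain ⟨v, hv⟩ := (inJ_iff _).mp hk
      obtain ⟨v', hv'⟩ := (inJ_iff _).mp hk'
      obtain ⟨m, -, h2, h3⟩ := h.fusion le_top (mem_top (φ k' * g * (φ k)⁻¹)) (u := v) (v := v')
        (by rw [ee, ee, hv, hv', ← map_cj φ rfl, ← map_cj φ rfl, ← e]; group)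
      obtain ⟨l, rfl⟩ := h.cent m (hN m h2)
      have := h.inj ((map_cj φ rfl).symm.trans h3)
      rw [hv, hv'] at this
      exact ⟨k'⁻¹ * l * k, by
        rw [← inv_mul_cancel_left k' b, ← inv_mul_cancel_right (k' * b) k', ← this]; group⟩
    exacts [h1 e3, absurd e3 (hr g), absurd (inv_eq_iff_eq_inv.mp e3) (hr g), h1 e3]
  obtain ⟨X, -, -, h1, h2, h3⟩ := exists_tr (W := f.ker.map φ) h.sylS (by
    rintro _ ⟨a, ha, rfl⟩ g - ⟨b, hb, e⟩
    obtain ⟨l, rfl⟩ := key g a b ha hb e.symm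
    exact ⟨a⁻¹ * (l * a * l⁻¹), by simp [mul_comm], by rw [map_mul, map_inv, e]⟩)
  refine exists_index_three (X := X) (fun a b => h1 a trivial b trivial) (fun a => h2 a trivial)
    fun e => ?_
  obtain ⟨l, h4, h5⟩ := h3 ⟨⟨r1, eL_val.1 ▸ inS_facts.2.2.1 _, rfl⟩, e ▸ mem_top _⟩
  rw [h.inj h5, SetLike.mem_coe, MonoidHom.mem_ker, f1] at h4
  exact absurd h4 (by decide)

theorem Base.cent_tr (h : Base φ) {p : V27} {W : Subgroup G}
    (h4 : ∀ g ∈ centralizer {ee φ p}, g ∈ normalizer (JJ φ : Set G) →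
      g ^ 4 ∈ JJ φ ∧ ∀ v, (ee φ v)⁻¹ * (g * ee φ v * g⁻¹) ∈ W) :
    ∃ X ≤ centralizer {ee φ p}, normalizer (centralizer {ee φ p} : Set G) ≤ normalizer (X : Set G) ∧
      (∀ a ∈ centralizer {ee φ p}, ∀ b ∈ centralizer {ee φ p}, a * b * a⁻¹ * b⁻¹ ∈ X) ∧
      (∀ a ∈ centralizer {ee φ p}, (orderOf a).Coprime 3 → a ∈ X) ∧
      centralizer {ee φ p} ≤ JJ φ ⊔ X ∧ JJ φ ⊓ X ≤ W ∧ IsSylowIn 3 (JJ φ ⊓ X) X := by
  have h1 : JJ φ ≤ centralizer {ee φ p} := fun j hj =>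
    mem_centralizer_singleton_iff.mpr (h.par.comm _ hj _ (h.par.mem' _))
  have hP := (h.wj.wn' _).sylow h.wj.pg h1 fun g hg hn => (h4 g hg hn).1
  obtain ⟨X, a1, a2, a3, a4, a5⟩ := exists_tr (W := W) hP (by
    rintro _ ⟨u, rfl⟩ g hg ⟨v, e⟩
    obtain ⟨m, b1, b2, b3⟩ := h.fusion h1 hg e.symm
    rw [← e, ← b3]
    exact (h4 m b1 b2).2 u)
  exact ⟨X, a1, a2, a3, a4, hP.le_sup_of_coprime a4, a5,
    hP.inf_of_le_normalizer a1 (le_normalizer.trans a2)⟩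

theorem Base.cent_refl (h : Base φ) {p : V27} (h1 : ∀ g ∈ centralizer {ee φ p},
      g ∈ normalizer (JJ φ : Set G) → Acts (ee φ) g (fun v => v) ∨
        Acts (ee φ) g fun v => (v.1, v.2.2, v.2.1)) :
    centralizer {ee φ p} ≤ normalizer (JJ φ : Set G) := by
  have hp := h.par
  refine h.wj.l2 (fun j hj => mem_centralizer_singleton_iff.mpr (hp.comm _ hj _ (hp.mem' _)))
    (hp.mem' (0, 1, 2)) (orderOf_eq_prime (hp.cube V27_three _) (hp.ne_one (by decide)))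
    (fun g hg hn => ?_) (fun g hg hn j hj => ?_) fun g hg hn hc => ?_
  · rcases h1 g hg hn with e | e
    · obtain ⟨w, rfl⟩ := h.cent_J e
      exact pow_mem (hp.mem' w) 4
    · obtain ⟨w, rfl⟩ := h.coset e (acts_s φ) fun _ => rfl
      exact par_pow_four hp w (ss φ) (acts_s φ w)
  · obtain ⟨v, rfl⟩ := hj
    rcases h1 g hg hn with e | e <;> rw [e, par_sub hp, par_zp hp V27_three (by decide)] <;>
      clear * - <;> revert v <;> decide
  · rcases h1 g hg hn with e | e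
    · obtain ⟨w, rfl⟩ := h.cent_J e
      exact hp.mem' w
    · exact absurd (e.fix hp hc) (by decide)

/-- The normalised element `t`. -/
structure HT2 (φ : L →* G) (t : G) : Prop extends HT φ t where
  tr : t * φ r2 * t⁻¹ = (φ r2)⁻¹

omit [Finite G] in
theorem HT.tz (h : HT φ t) : t * φ z * t⁻¹ = (φ z)⁻¹ := by rw [← ee_z, h.act, h.par.neg]

omit [Finite G] in
theorem HT.norm (h : HT φ t) : ∃ t', HT2 φ t' ∧ ∀ n, HN φ n → t * n = n * t → t' * n = n * t' := by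
  have hp := h.par
  have a1 : t * φ r1 * t⁻¹ = (φ r1)⁻¹ := by rw [← ee_r1, h.act, hp.neg]
  have a3 : t * φ r3 * t⁻¹ = (φ r3)⁻¹ := by rw [← ee_r3, h.act, hp.neg]
  obtain ⟨l, hl⟩ := h.cent (t * φ r2 * t⁻¹) (Commute.inv_right_iff.mp (by
    rw [← h.tz]; exact (Commute.conj_iff t).mpr (map_cm φ (z_comm r2))))
  have cj : ∀ {x y : L}, x = y → t * φ x * t⁻¹ = t * φ y * t⁻¹ := fun e => by rw [e]
  obtain ⟨v, hv, e⟩ := (La_facts.2.1 l (cm_of_map h.inj (by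
    rw [hl, ← mul_inv_cancel_right (φ s) t, ← h.ts, conj_mul, conj_mul,
      map_cm φ s_facts.2.2.2.2.1]))).2 (h.inj (by
      simpa only [map_mul, map_inv, ← conj_mul (b := t), a1, hl] using cj rel.2.1)) (h.inj (by
      simpa only [map_mul, map_inv, ← conj_mul (b := t), a3, hl] using cj rel.2.2.1))
  have h1 := h.act v
  refine ⟨ee φ v * t, ⟨⟨h.toBase, ?_, ?_, (acts_par hp v).mul h.act⟩, ?_⟩, fun n hn e => ?_⟩
  · rw [hp.neg, inv_eq_of_mul_eq_one_right h.tt] at h1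
    rw [mul_assoc, ← mul_assoc t, h1, mul_inv_cancel]
  · exact Commute.mul_left ((acts_s φ).comm (by clear * - hv; revert v; decide)).symm h.ts
  · rw [← map_inv, ← e, ← map_cj φ rfl, hl, ee]; group
  · exact Commute.mul_left (hn.act.comm (by clear * - hv; revert v; decide)).symm e

omit [Finite G] in
theorem HT2.tau (h : HT2 φ t) : ∃ τ : L →* L, ∀ l, (τ l).1 = t0 * l.1 * t0⁻¹ ∧
    φ (τ l) = t * φ l * t⁻¹ := by
  obtain ⟨τ, h1, h2, h3⟩ := exists_homL (a := r1⁻¹) (b := r2⁻¹) (c := r3⁻¹)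
    (by decide +kernel) (by decide +kernel) (by decide +kernel)
    (by decide +kernel) (by decide +kernel) (by decide +kernel)
  have h4 := La_facts.2.2.2.2.2
  simp only [List.mem_cons, forall_eq_or_imp] at h4
  refine ⟨τ, fun l => ⟨DFunLike.congr_fun (homL_ext (f := (cl msL).subtype.comp τ)
    (g := (MulAut.conj t0).toMonoidHom.comp (cl msL).subtype) ?_ ?_ ?_) l,
    DFunLike.congr_fun (homL_ext (f := φ.comp τ)
    (g := (MulAut.conj t).toMonoidHom.comp φ) ?_ ?_ ?_) l⟩⟩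
  exacts [(congrArg _ h1).trans h4.1.symm, (congrArg _ h2).trans h4.2.1.symm,
    (congrArg _ h3).trans h4.2.2.1.symm,
    (congrArg φ h1).trans (by change _ = t * _ * t⁻¹; rw [map_inv, ← ee_r1, h.act, h.par.neg]),
    (congrArg _ h2).trans ((map_inv _ _).trans h.tr.symm),
    (congrArg φ h3).trans (by change _ = t * _ * t⁻¹; rw [map_inv, ← ee_r3, h.act, h.par.neg])]

omit [Finite G] in
theorem HT.mem_inv (h : HT φ t) {g : G} (hg : g * φ z * g⁻¹ = (φ z)⁻¹) : ∃ l, g = φ l * t := by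
  obtain ⟨l, e⟩ := h.cent (g * t⁻¹) (by
    rw [← mul_inv_eq_iff_eq_mul, ← inv_inj, conj_inv]
    nth_rewrite 1 [← h.tz]
    rw [← hg]; group)
  exact ⟨l, by rw [e]; group⟩

omit [Finite G] in
/-- An involution inverting `z` centralises a conjugate of `w`. -/
theorem HT2.inv_z (h : HT2 φ t) {i : G} (hi : i * i = 1) (hz : i * φ z * i⁻¹ = (φ z)⁻¹) :
    ∃ m, i * (φ m * ee φ (0, 1, 2) * (φ m)⁻¹) = φ m * ee φ (0, 1, 2) * (φ m)⁻¹ * i := by
  obtain ⟨l, rfl⟩ := h.mem_inv hz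
  obtain ⟨τ, hτ⟩ := h.tau
  have h1 : l * τ l = 1 := h.inj (by
    rw [map_mul, (hτ l).2, map_one, ← hi, inv_eq_of_mul_eq_one_right h.tt]; group)
  obtain ⟨w, -, e⟩ := La_facts.2.2.2.2.1 l (by
    have := congrArg Subtype.val h1
    rw [coe_mul, (hτ l).1, show t0⁻¹ = t0 by decide +kernel] at this
    rw [← coe_one, ← this]; group)
  refine ⟨el msL w, ?_⟩
  rw [← (hτ _).1] at e
  have := map_cj φ (Subtype.ext e : l * τ _ * l⁻¹ = _)
  rw [← mul_inv_eq_iff_eq_mul, ee, map_cj φ rfl]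
  rw [(hτ _).2] at this
  exact Eq.trans (by group) this

omit [Finite G] in
theorem inv_mem_tr {X Y : Subgroup G} (h : ∀ a ∈ Y, (orderOf a).Coprime 3 → a ∈ X) {c : G}
    (hc : c ∈ Y) (e : c ^ 4 = 1) : c ∈ X :=
  h c hc (Nat.Coprime.coprime_dvd_left (orderOf_dvd_of_pow_eq_one e) (by norm_num))

omit [Finite G] in
theorem pow_four_of_sq {c : G} (e : c * c = 1) : c ^ 4 = 1 := by
  rw [show 4 = 2 * 2 from rfl, pow_mul, sq c, e, one_pow]

theorem HT2.case2a (h : HT2 φ t) (hO : ∀ v, Ob φ v → v = (2, 2, 2) ∨ v = (1, 1, 1)) :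
    normalizer (zpowers (φ z) : Set G) = ⊤ := by
  have hp := h.par
  set H := normalizer (zpowers (φ z) : Set G)
  have m1 : ∀ g, g * φ z * g⁻¹ = φ z ∨ g * φ z * g⁻¹ = (φ z)⁻¹ → g ∈ H := fun g hg =>
    mem_normalizer_of_conj_mem (by
      rintro _ ⟨k, rfl⟩
      change g * φ z ^ k * g⁻¹ ∈ _
      rw [← conj_zpow]
      rcases hg with e | e <;> rw [e]
      exacts [zpow_mem (mem_zpowers _) k, zpow_mem (inv_mem (mem_zpowers _)) k])
  have hL : ∀ l, φ l ∈ H := fun l => m1 _ (Or.inl (map_cj φ (mul_inv_eq_iff_eq_mul.mpr (z_comm l))))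
  have m2 : ∀ g ∈ H, (∃ l, g = φ l) ∨ ∃ l, g = φ l * t := fun g hg => by
    rcases mem_zpowers_three h.oz (conj_mem_of_mem_normalizer hg (mem_zpowers _)) with e | e | e
    · exact absurd h.oz (by simp [conj_eq_one_iff.mp e])
    · exact Or.inl ((h.cent g (mul_inv_eq_iff_eq_mul.mp e)).imp fun _ => Eq.symm)
    · exact Or.inr (h.mem_inv e)
  have m3 : ∀ g, g * φ z * g⁻¹ ∈ JJ φ → g ∈ H := by
    rintro g ⟨v, e⟩
    rcases hO v (isConj_iff.mpr ⟨g, e.symm⟩) with rfl | rfl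
    exacts [m1 g (Or.inl (e.symm.trans ee_z)),
      m1 g (Or.inr (e.symm.trans ((congrArg φ eL_inv).trans (map_inv _ _))))]
  have hz : φ z ∈ JJ φ := ee_z (φ := φ) ▸ hp.mem' _
  have hN : normalizer (JJ φ : Set G) ≤ H := fun g hg => m3 g (conj_mem_of_mem_normalizer hg hz)
  have nor : ∀ g ∈ normalizer (JJ φ : Set G), ∃ u ∈ act6, Acts (ee φ) g (lin u) ∨
      Acts (ee φ) g fun v => lin u (-v) := fun g hg => by
    rcases m2 g (hN hg) with ⟨l, rfl⟩ | ⟨l, rfl⟩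
    · exact (h.act6 hg (map_cm φ (z_comm l))).imp fun u hu => ⟨hu.1, Or.inl hu.2⟩
    · exact (h.act6 ((mul_mem_cancel_right (h.act.norm hp)).mp hg) (map_cm φ (z_comm l))).imp
        fun u hu => ⟨hu.1, Or.inr (hu.2.mul h.act)⟩
  have hst := (acts_s φ).mul h.act
  have st2 : φ s * t * (φ s * t) = 1 := by
    rw [mul_assoc, ← mul_assoc t, h.ts, mul_assoc, h.tt, mul_one, ss]
  have hD : ∀ {g}, Acts (ee φ) g (fun v => v) ∨ Acts (ee φ) g (fun v => -(v.1, v.2.2, v.2.1)) →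
      ∀ x ∈ DD φ, g * x * g⁻¹ = x ∨ g * x * g⁻¹ = x⁻¹ := by
    rintro g hg _ ⟨⟨v, rfl⟩, hv⟩
    have := h.mem_D.mp ⟨hp.mem' v, hv⟩
    exact hg.imp (· v) fun e => by
      rw [e, ← hp.neg]; congr 1; clear * - this; revert v; decide
  have D3 : ∀ d ∈ DD φ, d ^ 3 = 1 := by rintro _ ⟨⟨v, rfl⟩, -⟩; exact hp.cube V27_three v
  have Dc : ∀ a ∈ DD φ, ∀ b ∈ DD φ, a * b = b * a := fun a ha b hb => hp.comm a ha.1 b hb.1
  have Dz : φ z ∈ DD φ := ee_z (φ := φ) ▸ h.mem_D.mpr rfl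
  have hw : centralizer {ee φ (0, 1, 2)} ≤ H := by
    have h1 : ∀ g ∈ centralizer {ee φ (0, 1, 2)}, g ∈ normalizer (JJ φ : Set G) →
        Acts (ee φ) g (fun v => v) ∨ Acts (ee φ) g fun v => -(v.1, v.2.2, v.2.1) := fun g hg hn => by
      obtain ⟨u, hu, e | e⟩ := nor g hn
      · exact Or.inl (e.congr ((by decide +kernel : ∀ u ∈ act6, lin u (0, 1, 2) = (0, 1, 2) →
          ∀ v, lin u v = v) u hu (e.fix hp (mem_centralizer_singleton_iff.mp hg))))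
      · exact Or.inr (e.congr ((by decide +kernel : ∀ u ∈ act6, lin u (-(0, 1, 2)) = (0, 1, 2) →
          ∀ v, lin u (-v) = -(v.1, v.2.2, v.2.1)) u hu
            (e.fix hp (mem_centralizer_singleton_iff.mp hg))))
    obtain ⟨X, a1, a2, a3, a4, a5, a6, a7⟩ := h.cent_tr (p := (0, 1, 2)) (W := DD φ)
      fun g hg hn => by
        rcases h1 g hg hn with e | e
        · obtain ⟨w, rfl⟩ := h.cent_J e
          exact ⟨pow_mem (hp.mem' w) 4, fun v => by rw [e, inv_mul_cancel]; exact one_mem _⟩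
        · obtain ⟨w, rfl⟩ := h.coset e hst (by decide)
          exact ⟨par_pow_four hp w st2 (hst w), fun v => by
            rw [e, par_sub hp, h.mem_D]; clear * -; revert v; decide⟩
    have b0 : JJ φ ≤ centralizer {ee φ (0, 1, 2)} := fun j hj =>
      mem_centralizer_singleton_iff.mpr (hp.comm _ hj _ (hp.mem' _))
    have b1 := mem_centralizer_singleton_iff.mpr (hst.comm (v := (0, 1, 2)) rfl)
    have b2 : JJ φ ⊓ X = DD φ := le_antisymm a6 (by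
      rintro _ ⟨⟨v, rfl⟩, hv⟩
      have b3 := h.mem_D.mp ⟨hp.mem' v, hv⟩
      have := a3 _ b1 _ (b0 (hp.mem' v))
      rw [hst, ← hp.neg, ← hp.add] at this
      exact ⟨hp.mem' v, (congrArg (ee φ · ∈ X) (by clear * - b3; revert v; decide)).mp this⟩)
    obtain ⟨K, -, k2, k3, k4⟩ := len1 (b2 ▸ a7) h.card_D D3 Dc (fun g hg x hx e => by
      obtain ⟨v, rfl⟩ := hx.1
      obtain ⟨v', e'⟩ := e.1
      obtain ⟨m, c1, c2, c3⟩ := h.fusion b0 (a1 hg) e'.symm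
      rw [← e', ← c3]
      exact hD (h1 m c1 c2) _ hx) (inv_mem_tr a4 b1 (pow_four_of_sq st2)) (by
      rintro _ ⟨⟨v, rfl⟩, hv⟩
      have := h.mem_D.mp ⟨hp.mem' v, hv⟩
      rw [hst, ← hp.neg]; congr 1; clear * - this; revert v; decide)
    refine a5.trans (sup_le (le_normalizer.trans hN) fun g hg => m3 g ?_)
    obtain ⟨d, hd, e⟩ := k4 g hg _ Dz
    rw [h.sig K k3 (b0.trans (le_normalizer.trans (a2.trans k2))), mem_bot, inv_mul_eq_one] at e
    exact e ▸ hd.1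
  have h3 := h.wc3 hL hN fun p hp' => by
    rcases (by simpa only [List.mem_cons, or_assoc, List.not_mem_nil, or_false] using hp' :
      (p = (1, 0, 0) ∨ p = (0, 2, 2) ∨ p = (1, 2, 2)) ∨ p = (0, 1, 2)) with e | rfl
    · refine (h.cent_refl fun g hg hn => ?_).trans hN
      obtain ⟨u, hu, e' | e'⟩ := nor g hn <;>
        have := e'.fix hp (mem_centralizer_singleton_iff.mp hg)
      · exact ((by decide +kernel : ∀ u ∈ act6, ∀ p : V27, p = (1, 0, 0) ∨ p = (0, 2, 2) ∨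
          p = (1, 2, 2) → lin u p = p → (∀ v, lin u v = v) ∨ ∀ v, lin u v = (v.1, v.2.2, v.2.1))
          u hu p e this).imp e'.congr e'.congr
      · exact absurd this ((by decide +kernel : ∀ u ∈ act6, ∀ p : V27, p = (1, 0, 0) ∨
          p = (0, 2, 2) ∨ p = (1, 2, 2) → lin u (-p) ≠ p) u hu p e)
    · exact hw
  have n1 : ∀ l, φ l ∈ centralizer {φ s} → φ l ∈ normalizer (DD φ : Set G) → φ l ^ 4 ∈ JJ φ ∧
      ∀ x ∈ DD φ, φ l * x * (φ l)⁻¹ = x := fun l h1 h2 => by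
    have := (La_facts.2.1 l (cm_of_map h.inj (mem_centralizer_singleton_iff.mp h1))).1
      (inJ_of_mem h.inj (map_cj φ rfl ▸ (conj_mem_of_mem_normalizer h2
        (ee_r1 (φ := φ) ▸ h.mem_D.mpr rfl)).1))
    refine ⟨map_pow φ l 4 ▸ mem_JJ this.1, ?_⟩
    rintro _ ⟨⟨v, rfl⟩, hv⟩
    exact mul_inv_eq_iff_eq_mul.mpr (map_cm φ (this.2 v (h.mem_D.mp ⟨hp.mem' v, hv⟩)))
  have tC := mem_centralizer_singleton_iff.mpr h.ts
  have tD : ∀ x ∈ DD φ, t * x * t⁻¹ = x⁻¹ := by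
    rintro _ ⟨⟨v, rfl⟩, -⟩; rw [h.act, hp.neg]
  have tN : t ∈ normalizer (DD φ : Set G) :=
    mem_normalizer_of_conj_mem fun x hx => tD x hx ▸ inv_mem hx
  have hS : IsSylowIn 3 (DD φ) (centralizer {φ s}) := by
    refine isSylowIn_of_maximal inf_le_right (h.wj.pg.to_le inf_le_left) fun Q hQ h1 h2 => ?_
    by_contra hne
    obtain ⟨g, hg, h4, h5⟩ := exists_mem_normalizer_of_lt_of_isNilpotent hQ.isNilpotent
      (lt_of_le_of_ne h1 (Ne.symm hne))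
    have h6 := coprime_four_of_isPGroup hQ hg
    refine h5 ⟨mem_of_pow_mem_of_coprime h6 ?_, h2 hg⟩
    obtain ⟨l, rfl⟩ := h.cent g (mem_centralizer_singleton_iff.mp (mem_of_pow_mem_of_coprime h6 (by
      rw [mem_centralizer_singleton_iff, show 4 = 2 * 2 from rfl, pow_mul]
      refine (Commute.pow_left (mul_inv_eq_iff_eq_mul.mp ?_) 2).eq
      rw [show g ^ 2 * φ z * (g ^ 2)⁻¹ = g * (g * φ z * g⁻¹) * g⁻¹ by rw [sq]; group]
      rcases mem_zpowers_three h.oz (conj_mem_of_mem_normalizer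
        (m3 g (conj_mem_of_mem_normalizer h4 Dz).1) (mem_zpowers _)) with e | e | e
      · exact absurd h.oz (by simp [conj_eq_one_iff.mp e])
      · rw [e, e]
      · rw [e, ← conj_inv, e, inv_inv])))
    exact (n1 l (h2 hg) h4).1
  have hs : centralizer {φ s} ≤ H := by
    obtain ⟨K, -, k2, k3, k4⟩ := len1 hS h.card_D D3 Dc (fun g hg x hx e => by
      obtain ⟨m, a1, a2, a3⟩ := (wn_of_sylow hS).fusion hS.isPGroup Dc hS.le hx hg e
      rw [← a3]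
      rcases m2 m (m3 m (conj_mem_of_mem_normalizer a2 Dz).1) with ⟨l, rfl⟩ | ⟨l, rfl⟩
      · exact Or.inl ((n1 l a1 a2).2 x hx)
      · refine Or.inr ?_
        rw [← (n1 l ((mul_mem_cancel_right tC).mp a1) ((mul_mem_cancel_right tN).mp a2)).2 _
          (inv_mem hx), ← tD x hx]
        group) tC tD
    intro g hg
    obtain ⟨d, hd, e⟩ := k4 g hg _ Dz
    exact h3 _ (hL z) h.oz g ((H.mul_mem_cancel_left (inv_mem (hN (le_normalizer hd.1)))).mp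
      (h.le_of_D hL h3 k3 (hS.le.trans (le_normalizer.trans k2)) e))
  have h4 : WC H (φ s) := wc_of_i1 h3 (ss φ) hs fun i hi e => by
    rcases m2 i hi with ⟨l, rfl⟩ | ⟨l, rfl⟩
    · exact ⟨_, hL z, h.oz, map_cm φ (z_comm l)⟩
    · obtain ⟨m, e'⟩ := h.inv_z e (by
        rw [← map_inv, ← map_cj φ (mul_inv_eq_iff_eq_mul.mpr (Commute.inv_right (z_comm l)).eq),
          map_inv, ← h.tz]; group)
      exact ⟨_, mul_mem (mul_mem (hL m) (hL _)) (inv_mem (hL m)), (isConj_orderOf (isConj_cj _ _)).symm.trans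
        (orderOf_eq_prime (hp.cube V27_three _) (hp.ne_one (by decide))), e'⟩
  obtain ⟨τ, hτ⟩ := h.tau
  refine eq_top_iff.mpr (delta (Δ := Set.range fun l => φ (l * s * l⁻¹)) h3 ?_ ?_ ⟨1, rfl⟩ ?_
    (hL (r1 * sg)) (mem_top _) (by rw [← map_pow, La_facts.2.2.2.1, map_one]) ?_)
  · rintro _ ⟨l, rfl⟩
    exact ⟨hL _, mem_top _, by rw [← map_mul, conj_mul, s_facts.1]; simp,
      h4.of_hc ⟨_, hL l, map_cj φ rfl⟩⟩
  · rintro _ ⟨l, rfl⟩ g hg -
    rcases m2 g hg with ⟨k, rfl⟩ | ⟨k, rfl⟩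
    · exact ⟨k * l, by simp [mul_assoc]⟩
    · refine ⟨k * τ l, ?_⟩
      simp only [map_mul, map_inv, (hτ l).2]
      conv_lhs => rw [← mul_inv_cancel_right (φ s) t, ← h.ts]
      group
  · rintro _ ⟨l, rfl⟩ _ ⟨k, rfl⟩ h5 h6
    refine absurd (congrArg φ ?_) h5
    have := (La_facts.2.2.1 (k⁻¹ * l)).1 (by
      calc _ = k⁻¹ * (l * s * l⁻¹ * (k * s * k⁻¹)) * k := by group
        _ = _ := by rw [cm_of_map h.inj h6]; group)
    conv_rhs => rw [← this]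
    group
  · rintro _ ⟨l, rfl⟩ e
    exact (La_facts.2.2.1 l).2 (cm_of_map h.inj e)

end Cfsg.Agent.P43
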