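import Cfsg.Agent.P43.RealB

/-! The real case with automiser `S₄ × 2`: the centraliser of `s`. -/

set_option autoImplicit false
set_option maxRecDepth 100000
set_option synthInstance.maxSize 4096

namespace Cfsg.Agent.P43

open Subgroup Cfsg.Agent.Mat Cfsg.Agent.Char Cfsg.Agent.Local L Equiv
open scoped Pointwise

/-- The codes of a subgroup `SL₂(3)`. -/
def yCodes : List ℕ := [0x1b0004190b0608130e15070f12110309160d1801021a0c050a141017, 0x1b010e1705110416081a0009130c0d02120a15070f18061003190b14, 0x1b0201130f09111505191014061a0d120e0a001718080716030b0c04, 0x1b0416010e0817051a11180619100300090d130c0b0212070a15140f, 0x1b05061011010b0c0007191a040f0a1718030e09161415020d081312, 0x1b061809000b1202140f0e0110130a0517030c15111604190d07081a, 0x1b070814100c0e120418010216060a0f13031a000915110b0d170519, 0x1b081300040e190b15061a0c14050a070f031211100916010d181702, 0x1b090012020f06180b1405170c150316040d07191a0e01130a101108,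 0x1b0b0c05060010110701141508020d191a0a040f13171809030e1216, 0x1b0c1a0f071016091702040005120d0b190a11180613081403010e15, 0x1b0e120708041410180c1511170b0d01020a1606050f1300031a1909, 0x1b0f071609020c1a10170b1911180a1308030114150400120d05060e, 0x1b10110b0c070506010017180e090314150d080212191a0f0a041613, 0x1b1115020105130f190908070b160310140d061a0c120e170a000418, 0x1b120206181409000f0b160407190d0e010a101308051715030c1a11, 0x1b130f11151902010905120e00170a0807030b160410141a0d06180c, 0x1b14100e121807080c040f131a000315110d170b190102060a160905, 0x1b15141a191318171216060502040311100d0f0e010c0b080a090007, 0x1b16090c1a170f070210130801140304000d05120e0b19180a111506, 0x1b170504161a010e1108021215070a18060319101400090c0d130f0b, 0x1b18171514121a1916130c0b09080a06050302040011100e0d0f0701, 0x1b190b0813150004060e091618010d1a0c0a140517070f1103120210, 0x1b1a191817161514131211100f0e0d0c0b0a09080706050403020100]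

/-- Membership in `SL₂(3)`. -/
abbrev inY (l : L) : Prop := memN l.1.1 yCodes = true

attribute [local irreducible] memN r1 r2 r3 z s sg qq eL cmul cinv
attribute [local instance 10000] List.decidableBAll

theorem Y_facts : (∀ a, inY a → (inY a⁻¹ ∧ ∀ b, inY b → inY (a * b)) ∧ a * s = s * a ∧
      a * eL (1, 2, 2) * a⁻¹ ≠ (eL (1, 2, 2))⁻¹ ∧ (a * eL (1, 2, 2) = eL (1, 2, 2) * a →
      ∃ i < 3, a = eL (1, 2, 2) ^ i ∨ a * s = eL (1, 2, 2) ^ i)) ∧
    (inY 1 ∧ inY s ∧ inY (eL (1, 2, 2)) ∧ ¬ inY (eL (1, 1, 1))) ∧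
    (∀ a, a * s = s * a → ∃ i < 3, inY ((eL (1, 1, 1) ^ i)⁻¹ * a)) ∧
    eL (1, 2, 2) * (qq * eL (1, 2, 2) * qq⁻¹ * (eL (1, 2, 2))⁻¹) * (eL (1, 2, 2))⁻¹ * s = qq ∧
    qq⁻¹ * ((eL (0, 2, 2))⁻¹ * qq⁻¹ * (eL (0, 2, 2))⁻¹⁻¹) *
      ((eL (0, 2, 2))⁻¹⁻¹ * qq⁻¹ * (eL (0, 2, 2))⁻¹) = 1 ∧ qq⁻¹ = qq * s ∧ qq⁻¹ * qq⁻¹ = s := by
  decide +kernel

/-- A subgroup `SL₂(3)`. -/
def QY : Subgroup L where
  carrier := {l | inY l}
  one_mem' := Y_facts.2.1.1
  mul_mem' := fun ha hb => (Y_facts.1 _ ha).1.2 _ hb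
  inv_mem' := fun ha => (Y_facts.1 _ ha).1.1

variable {G : Type*} [Group G] [Finite G] {φ : L →* G} {n t : G}

omit [Finite G] in
theorem HN.conj_ns (h : HN φ n) : IsConj (φ s) (n * φ s) :=
  h.conj_of_acts (h.act.mul (acts_s φ)) (acts_s φ) (((acts_sg φ).mul h.act).mul
    ((acts_sg φ).inv (f' := fun v => (v.2.1, v.2.2, v.1)) fun _ => rfl)) h.nss (ss φ)
    (by decide) fun _ => rfl

theorem RR.cent_yx (h : RR φ n t) {g : G} (h1 : g * ee φ (1, 2, 2) = ee φ (1, 2, 2) * g)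
    (h2 : g * φ s = φ s * g) : g * ee φ (0, 2, 2) * g⁻¹ = ee φ (0, 1, 1) ∨
      ∃ w : V27, w.2.1 = w.2.2 ∧ (g = ee φ w ∨ g * φ s = ee φ w) := by
  obtain ⟨-, -, w, rfl | rfl | rfl | rfl⟩ := h.cent_y h1
  · exact Or.inr ⟨w, h.mem_D.mp ⟨h.par.mem' w, mem_centralizer_singleton_iff.mpr h2⟩, Or.inl rfl⟩
  · exact Or.inr ⟨w, h.mem_D.mp (h.mem_D' rfl h2), Or.inr (by rw [mul_assoc, ss, mul_one])⟩
  · exact Or.inl (par_cj' h.par w (h.acts_a _))
  · exact Or.inl (par_cj' h.par w ((acts_s φ).mul h.acts_a _))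

theorem RR.exists_M (h : RR φ n t) : ∃ M ≤ centralizer {φ s}, centralizer {φ s} ≤
    normalizer (M : Set G) ∧ φ s ∈ M ∧ ee φ (1, 2, 2) ∈ M ∧ φ qq ∈ M ∧
    ∀ g ∈ M, g * ee φ (1, 2, 2) = ee φ (1, 2, 2) * g →
      g ∈ zpowers (ee φ (1, 2, 2)) ∨ g * φ s ∈ zpowers (ee φ (1, 2, 2)) := by
  have hp := h.par
  obtain ⟨X, hX, -⟩ := h.exists_X
  have c1 : ∀ v : V27, v.2.1 = v.2.2 → ee φ v ∈ centralizer {φ s} := fun v hv => (h.mem_D.mpr hv).2
  have nC := mem_centralizer_singleton_iff.mpr h.ns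
  have tC := mem_centralizer_singleton_iff.mpr h.ht.ts
  have sX := hX.inv ((acts_s φ).comm rfl) (pow_four_of_sq (ss φ))
  have xy : ee φ (0, 2, 2) * ee φ (1, 2, 2) = ee φ (1, 1, 1) := (hp.add _ _).symm
  have key : ∀ k ∈ centralizer {φ s}, ∀ v : V27, v.2.1 = v.2.2 →
      k * n * k⁻¹ * ee φ v * (k * n * k⁻¹)⁻¹ = (ee φ v)⁻¹ → ∃ i, i * i = 1 ∧ IsConj (φ s) i ∧
        i * ee φ v * i⁻¹ = (ee φ v)⁻¹ := fun k hk v hv e => by
    refine ⟨k * (n * φ s) * k⁻¹, by rw [conj_mul, h.nss]; group, h.conj_ns.trans (isConj_cj _ _), ?_⟩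
    rw [← conj_mul, mem_centralizer_singleton_iff.mp hk, mul_inv_cancel_right, ← e, mul_assoc _ (φ s),
      ← mem_centralizer_singleton_iff.mp (c1 v hv)]
    group
  obtain ⟨M, m1, m2, m3, m4, m5⟩ := bs_mod (p := ee φ (0, 2, 2)) (q := ee φ (1, 2, 2)) (b := n)
    (H₁ := X ⊓ centralizer {φ s}) (H₂ := QY.map φ) (ss φ) inf_le_right
    (by rintro _ ⟨l, hl, rfl⟩; exact mem_centralizer_singleton_iff.mpr (map_cm φ (Y_facts.1 l hl).2.1))
    (c1 _ rfl) nC (hp.cube V27_three _)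
    (orderOf_eq_prime (hp.cube V27_three _) (hp.ne_one (by decide)))
    ⟨(hX.mem _).mpr rfl, c1 _ rfl⟩ ⟨_, Y_facts.2.1.2.2.1, rfl⟩
    ⟨sX, mem_centralizer_singleton_iff.mpr rfl⟩ ⟨_, Y_facts.2.1.2.1, rfl⟩
    (fun e => absurd ((hX.mem _).mp e.1) (by decide)) (fun g hg => hX.cm hg.1)
    (fun g hg e => by
      obtain ⟨i, k, hk, rfl⟩ := hX.dec g e
      exact ⟨i, k, ⟨hk, (mul_mem_cancel_left (pow_mem (c1 _ rfl) i)).mp hg⟩, rfl⟩)
    (fun g hg e => by
      have k : ∀ w : V27, w.2.1 = w.2.2 → ee φ w ∈ X → ee φ w ∈ zpowers (ee φ (1, 2, 2)) :=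
        fun w h1 h2 => by
          have := (hX.mem w).mp h2
          rw [par_zp hp V27_three (by decide)]; clear * - h1 this; revert w; decide
      obtain e | ⟨w, h1, e | e⟩ := h.cent_yx e (mem_centralizer_singleton_iff.mp hg.2)
      · rw [hX.cm hg.1, mul_inv_cancel_right] at e
        exact absurd (hp.inj e) (by decide)
      · exact Or.inl (e ▸ k w h1 (e ▸ hg.1))
      · exact Or.inr (e ▸ k w h1 (e ▸ mul_mem hg.1 sX)))
    ⟨n, ⟨hX.inv (h.act.comm rfl) (pow_four_of_sq h.nn), nC⟩, (h.act _).trans (hp.neg (1, 2, 2))⟩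
    (by rw [xy]; rintro ⟨l, hl, e⟩; exact Y_facts.2.1.2.2.2 (h.inj e ▸ hl))
    (by
      rintro _ ⟨l, -, rfl⟩
      rw [xy, ee, eL_inv]; exact map_cm φ (Commute.inv_right (z_comm l)))
    (fun g hg e => by
      rw [xy] at e ⊢
      obtain ⟨l, rfl⟩ := h.cent g (Commute.inv_right_iff.mp (by rwa [ee, eL_inv, map_inv] at e))
      obtain ⟨i, -, hi⟩ := Y_facts.2.2.1 l (cm_of_map h.inj (mem_centralizer_singleton_iff.mp hg))
      exact ⟨i, _, ⟨_, hi, rfl⟩, by simp [ee]⟩)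
    (by
      rintro _ ⟨l, hl, rfl⟩ e
      obtain ⟨i, -, hi⟩ := (Y_facts.1 l hl).2.2.2 (cm_of_map h.inj e)
      rw [← map_mul]
      exact hi.imp (fun e => by rw [e, map_pow]; exact pow_mem (mem_zpowers _) i)
        fun e => by rw [e, map_pow]; exact pow_mem (mem_zpowers _) i)
    (by
      rintro _ ⟨l, hl, rfl⟩ e
      exact (Y_facts.1 l hl).2.2.1 (h.inj ((map_cj φ rfl).symm.trans (e.trans (map_inv _ _).symm))))
    (fun g e => by
      obtain ⟨a, ha, e⟩ := h.fus (xy ▸ e)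
      exact (by decide +kernel : ∀ a ∈ act48, lin a (0, 2, 2) ≠ (1, 1, 1)) a ha e)
    ⟨t, tC, (h.ht.act _).trans (hp.neg _)⟩ ⟨t, tC, xy ▸ (h.ht.act _).trans (hp.neg _)⟩ h.nn
    (fun k hk e => by
      obtain ⟨i, h1, h2, h3⟩ := key k hk _ rfl e
      exact h.inv_x h1 h3 h2)
    fun k hk e => by
      obtain ⟨i, h1, h2, h3⟩ := key k hk _ rfl (xy ▸ e)
      rw [ee, eL_inv, map_inv, ← conj_inv, inv_inj] at h3
      exact h.n9_z h1 h3 (h.nine_s h2)
  have k1 : ∀ g ∈ M, ∀ c ∈ centralizer {φ s}, g * c * g⁻¹ * c⁻¹ ∈ M := fun g hg c hc => by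
    simpa [mul_assoc] using mul_mem hg (conj_mem_of_mem_normalizer (m2 hc) (inv_mem hg))
  have k2 : ee φ (1, 2, 2) ∈ M := by
    have := k1 n m4 _ (c1 (1, 2, 2) rfl)
    rwa [h.act, ← hp.neg, ← hp.add] at this
  refine ⟨M, m1, m2, m3, k2, ?_, fun g hg e => ?_⟩
  · rw [← Y_facts.2.2.2.1]
    simp only [map_mul, map_inv]
    exact mul_mem (mul_mem (mul_mem k2 (mul_mem (conj_mem_of_mem_normalizer (m2
      (mem_centralizer_singleton_iff.mpr (map_cm φ s_facts.2.2.2.1))) k2) (inv_mem k2)))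
      (inv_mem k2)) m3
  · have k : ∀ w : V27, w.2.1 = w.2.2 → ee φ w ∈ M → ee φ w ∈ zpowers (ee φ (1, 2, 2)) :=
      fun w h1 h2 => by
        rw [par_zp hp V27_three (by decide)]
        refine ((by decide : ∀ w : V27, w.2.1 = w.2.2 → (w = 0 ∨ w = (1, 2, 2) ∨ w = -(1, 2, 2)) ∨
          ∃ i < 3, ∃ j < 3, (0, 2, 2) = i • w + j • ((1, 2, 2) : V27)) w h1).resolve_right ?_
        rintro ⟨i, -, j, -, e⟩
        have hs : ∀ (i : ℕ) v, ee φ v ∈ M → ee φ (i • v) ∈ M := fun i v hv => by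
          induction i with
          | zero => rw [zero_smul, hp.zero]; exact one_mem M
          | succ i ih => rw [succ_nsmul, hp.add]; exact mul_mem ih hv
        exact m5 (e ▸ hp.add _ _ ▸ mul_mem (hs i w h2) (hs j _ k2))
    obtain e | ⟨w, h1, e | e⟩ := h.cent_yx e (mem_centralizer_singleton_iff.mp (m1 hg))
    · have := k1 g hg _ (c1 (0, 2, 2) rfl)
      rw [e, ← hp.neg, ← hp.add] at this
      exact absurd this m5
    · exact Or.inl (e ▸ k w h1 (e ▸ hg))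
    · exact Or.inr (e ▸ k w h1 (e ▸ mul_mem hg m3))

theorem RR.ckx (h : RR φ n t) {K : Subgroup G} (k1 : K ≤ centralizer {φ s}) (k2 : φ s ∈ K)
    (k3 : centralizer {φ s} ≤ normalizer (K : Set G)) (k4 : ¬ 3 ∣ Nat.card K) {k : G} (hk : k ∈ K)
    (hx : k * ee φ (0, 2, 2) = ee φ (0, 2, 2) * k) :
    (k = 1 ∨ k = φ s) ∨ ¬ 9 ∣ Nat.card (centralizer {k * (t * n)}) := by
  have hp := h.par
  have hs := mem_centralizer_singleton_iff.mp (k1 hk)
  have a1 : ∀ v, ee φ v ∈ K → ee φ v = 1 := fun v hv => eq_one_of_cube k4 hv (hp.cube V27_three v)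
  have a2 : k * ee φ (1, 2, 2) * k⁻¹ * (ee φ (1, 2, 2))⁻¹ ∈ K := by
    simpa [mul_assoc] using mul_mem hk (conj_mem_of_mem_normalizer
      (k3 ((h.mem_D (v := (1, 2, 2))).mpr rfl).2) (inv_mem hk))
  obtain h3 | ⟨X, ψ, h3⟩ := h.dich
  · obtain ⟨v, e⟩ := mul_mem (conj_mem_of_mem_normalizer (h3 k hx) (hp.mem' (1, 2, 2)))
      (inv_mem (hp.mem' (1, 2, 2)))
    rw [a1 v (e ▸ a2), eq_comm, mul_inv_eq_one, mul_inv_eq_iff_eq_mul] at e
    obtain e | ⟨w, -, e | e⟩ := h.cent_yx e hs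
    · rw [hx, mul_inv_cancel_right] at e
      exact absurd (hp.inj e) (by decide)
    · exact Or.inl (Or.inl (e ▸ a1 w (e ▸ hk)))
    · rw [a1 w (e ▸ mul_mem hk k2)] at e
      exact Or.inl (Or.inr ((eq_inv_of_mul_eq_one_left e).trans (inv_eq_of_mul_eq_one_right (ss φ))))
  obtain ⟨p, rfl⟩ := (h3.ran k).mp (h3.two k hx (Nat.Coprime.coprime_dvd_left
    (orderOf_dvd_card_of_mem hk) ((Nat.Prime.coprime_iff_not_dvd Nat.prime_three).mpr k4).symm))
  obtain ⟨e0, rfl | rfl | e | e | ⟨g, e⟩⟩ := (s6_facts p).2.2.2 (h3.cm' (h3.s5.symm ▸ hs))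
  · exact Or.inl (Or.inl (map_one ψ))
  · exact Or.inl (Or.inr h3.s5)
  · exact absurd (h3.inj ((map_pow ψ p 4).trans ((eq_one_of_cube k4 (pow_mem hk 4) (by
      rw [← pow_mul, ← map_pow, e0, map_one])).trans (map_one ψ).symm))) e
  · rw [← h3.y, ← map_inv, ← map_inv, ← map_mul, ← map_mul, ← map_mul] at a2
    exact absurd (h3.inj ((eq_one_of_cube k4 a2 (by rw [← map_pow, e.1, map_one])).trans
      (map_one ψ).symm)) e.2
  right
  rw [card_centralizer_eq_of_isConj (isConj_cj (ψ g) _), ← conj_mul, ← h3.ca g, mul_inv_cancel_right,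
    ← map_inv, ← map_mul, ← map_mul]
  rcases e with e | e <;> rw [e]
  · rw [h3.n6, h.tn, ← mul_assoc, h.nn, one_mul]
    exact h.n9_z h.ht.tt h.ht.tz
  · refine h.n9_n (h.conj_of_acts ((h3.acts_t6 hp).mul h.acts_a) h.act (acts_sg φ) ?_ h.nn
      (by decide) (by decide))
    rw [mul_assoc, ← mul_assoc (t * n), h3.ca, mul_assoc, h.aa, mul_one, ← map_mul]
    exact (congrArg ψ (by decide)).trans (map_one ψ)

omit [Finite G] in
theorem dih_a {a u u' c s : G} (aa : a * a = 1) (e1 : a * u * a⁻¹ = c * u'⁻¹ * c⁻¹)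
    (zq : c * u = u * c) (qi : u⁻¹ = u * s) (e2 : u'⁻¹ = u' * s) (e3 : u' * s = s * u')
    (ss : s * s = 1) : IsConj a (c * (u * u' * u⁻¹ * u'⁻¹) * c⁻¹ * a) := by
  have h1 : u * (a * u * a⁻¹)⁻¹ = c * (u * u') * c⁻¹ := by rw [e1, ← mul_assoc c, zq]; group
  have h2 : u * u' * u⁻¹ * u'⁻¹ = u * u' * (u * u') := by
    rw [qi, e2, e3, mul_assoc _ (u * s), mul_assoc u s, ← mul_assoc s, ss, one_mul]
  refine isConj_iff.mpr ⟨u * a * u⁻¹, ?_⟩
  rw [h2, ← conj_mul (a := u * u'), ← h1]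
  simp only [mul_inv_rev, inv_inv, inv_eq_of_mul_eq_one_right aa, mul_assoc, aa, mul_one]

theorem RR.main (h : RR φ n t) : (∀ H : Subgroup G, (∀ l, φ l ∈ H) →
      (∀ u ∈ H, orderOf u = 3 → WC H u) → centralizer {φ s} ≤ H) ∧
    φ qq * (n * φ qq * n⁻¹) = n * φ qq * n⁻¹ * φ qq ∧
    ∀ X ψ, S6D φ n t X ψ → φ qq * ψ v6 = ψ v6 * φ qq := by
  have hp := h.par
  obtain ⟨M, m1, m2, m3, m4, m5, m6⟩ := h.exists_M
  obtain ⟨K, k1, k2, k3, k4, k5, k6⟩ := h.core m1 m2 m4 m5 m6 fun g hg e => by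
    have := orderOf_dvd_of_pow_eq_one (h.exp_xs (mem_centralizer_singleton_iff.mp (m1 hg)) e)
    exact ⟨fun e => absurd (e.trans this) (by norm_num), fun e => absurd (e.trans this) (by norm_num)⟩
  have oy := orderOf_eq_prime (hp.cube V27_three (1, 2, 2)) (hp.ne_one (by decide))
  have c1 : ∀ v : V27, v.2.1 = v.2.2 → ee φ v ∈ centralizer {φ s} := fun v hv => (h.mem_D.mpr hv).2
  have c2 := fun v hv => mem_centralizer_singleton_iff.mp (c1 v hv)
  have nC := mem_centralizer_singleton_iff.mpr h.ns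
  have qq2 : φ qq * φ qq = φ s := by rw [← map_mul, s_facts.2.2.1]
  have k7 : φ s ∈ K := qq2 ▸ mul_mem k2 k2
  have k8 := conj_mem_of_mem_normalizer (k3 nC) k2
  have cK : ∀ a ∈ K, ∀ b ∈ K, a * b * a⁻¹ * b⁻¹ ∈ K := fun a ha b hb =>
    mul_mem (mul_mem (mul_mem ha hb) (inv_mem ha)) (inv_mem hb)
  have zq : Commute (φ z) (φ qq) := map_cm φ (z_comm qq).symm
  have zs : Commute (φ z) (φ s) := map_cm φ (z_comm s).symm
  have zC := mem_centralizer_singleton_iff.mpr zs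
  have qs : Commute (φ qq) (φ s) := map_cm φ s_facts.2.2.2.1
  have qi : (φ qq)⁻¹ = φ qq * φ s := by rw [← map_inv, Y_facts.2.2.2.2.2.1, map_mul]
  refine ⟨fun H hL h3 g hg => ?_, ?_, fun X ψ h3 => ?_⟩
  · have h4 := h.le_of_D hL h3 k4 (inf_le_right.trans k3)
    have h5 := h3 _ (hL (eL (1, 2, 2))) oy
    obtain ⟨m, hm, e⟩ := ci_conj oy m4 m3 (ss φ)
      (fun g hg => mem_centralizer_singleton_iff.mp (m1 hg)) m6
      (conj_mem_of_mem_normalizer (m2 hg) m4) (by rw [conj_pow, hp.cube V27_three]; group)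
      (by rw [Ne, conj_eq_one_iff]; exact hp.ne_one (by decide))
    refine (H.mul_mem_cancel_left (h5 m ?_)).mp (h5 (m * g) ?_)
    · exact (k5 m hm).elim (fun e => (H.mul_mem_cancel_right (inv_mem (hL _))).mp (h4 e))
        fun e => (H.mul_mem_cancel_right (hL _)).mp (h4 e)
    · rw [show m * g * φ (eL (1, 2, 2)) * (m * g)⁻¹ = m * (g * ee φ (1, 2, 2) * g⁻¹) * m⁻¹ by
        rw [ee]; group]
      rcases e with e | e <;> rw [e]
      exacts [hL _, inv_mem (hL _)]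
  · have a3 := congrArg φ s_facts.2.2.2.2.2.2.2.2.2
    simp only [map_mul, map_inv, map_one] at a3
    refine comm_of_eps (ss φ) (ee_r1 (φ := φ) ▸ c2 _ rfl) qs (by
      rw [← h.nz, conj_mul, conj_mul, zq.eq]) a3 ?_
    have e1 : t * n * φ qq * (t * n)⁻¹ = φ z * (n * φ qq * n⁻¹)⁻¹ * (φ z)⁻¹ := by
      have e2 : t * φ r1 * t⁻¹ = (φ r1)⁻¹ := by rw [← ee_r1, h.ht.act, hp.neg]
      have e3 : φ qq = (φ r1)⁻¹ * φ r2 := by rw [words.2.2.2, map_mul, inv_mul_cancel_left]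
      rw [h.tn, ← h.nr, show n * t * φ qq * (n * t)⁻¹ = n * (t * φ qq * t⁻¹) * n⁻¹ by group, e3,
        ← conj_mul (b := t), ← conj_inv (b := t), e2, h.ht.tr]
      group
    have e2 : (n * φ qq * n⁻¹)⁻¹ = n * φ qq * n⁻¹ * φ s := by
      rw [conj_inv, qi, ← conj_mul, h.ns, mul_inv_cancel_right]
    have e5 := dih_a h.aa e1 zq qi e2 (mem_centralizer_singleton_iff.mp (m1 (k1 k8))) (ss φ)
    rcases h.ckx (k1.trans m1) k7 k3 k4 (conj_mem_of_mem_normalizer (k3 zC) (cK _ k2 _ k8)) (by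
      have : Commute (φ z) (ee φ (0, 2, 2)) := ee_z (φ := φ) ▸ hp.comm _ (hp.mem' _) _ (hp.mem' _)
      exact (this.mul_left k6).mul_left this.inv_left) with e | e
    · exact e.imp conj_eq_one_iff.mp fun e => by
        rwa [mul_inv_eq_iff_eq_mul, ← zs.eq, mul_right_inj] at e
    · refine absurd ?_ e
      have e6 : Nat.card ↥(JJ φ ⊓ centralizer {t * n}) = 9 :=
        hp.card_subtype (· ∈ JJ φ ⊓ centralizer {t * n}) (fun v => -nu v = v) (fun _ hg => hg.1)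
          fun v => ⟨fun hv => h.acts_a.fix hp (mem_centralizer_singleton_iff.mp hv.2).symm, fun hv =>
            ⟨hp.mem' v, mem_centralizer_singleton_iff.mpr (h.acts_a.comm hv).symm⟩⟩
      rw [← card_centralizer_eq_of_isConj e5, ← e6]
      exact card_dvd_of_le inf_le_right
  · have v1 : ψ v6 ∈ centralizer {φ s} := mem_centralizer_singleton_iff.mpr (by
      rw [← h3.s5, ← map_mul, ← map_mul]; exact congrArg ψ (by decide))
    have v2 : ∀ N : Subgroup G, centralizer {φ s} ≤ normalizer (N : Set G) →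
        ψ v6 * ee φ (1, 2, 2) * (ψ v6)⁻¹ * (ee φ (1, 2, 2))⁻¹ ∈ N → ψ v6 ∈ N := fun N hN e => by
      have := conj_mem_of_mem_normalizer (hN (c1 (1, 2, 2) rfl)) e
      rw [← h3.y] at this
      simp only [← map_inv, ← map_mul] at this
      exact (congrArg (ψ · ∈ N) (by decide)).mp this
    have v3 : ψ v6 ∈ K := by
      refine v2 K k3 ((k5 _ (v2 M m2 (mul_mem (conj_mem_of_mem_normalizer (m2 v1) m4)
        (inv_mem m4)))).resolve_right fun e => ?_)
      rw [← h3.y] at e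
      simp only [← map_inv, ← map_mul] at e
      exact absurd (h3.inj ((eq_one_of_cube k4 e (by
        rw [← map_pow]; exact (congrArg ψ (by decide)).trans (map_one ψ))).trans (map_one ψ).symm))
        (by decide)
    have hf : ∀ k ∈ K, k * ee φ (1, 2, 2) = ee φ (1, 2, 2) * k → k = 1 ∨ k = φ s := fun k hk e => by
      have y3 : ∀ g ∈ zpowers (ee φ (1, 2, 2)), g ^ 3 = 1 := fun g hg =>
        orderOf_dvd_iff_pow_eq_one.mp (oy ▸ orderOf_dvd_of_mem_zpowers hg)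
      exact (m6 k (k1 hk) e).imp (fun e => eq_one_of_cube k4 hk (y3 _ e)) fun e =>
        (eq_inv_of_mul_eq_one_left (eq_one_of_cube k4 (mul_mem hk k7) (y3 _ e))).trans
          (inv_eq_of_mul_eq_one_right (ss φ))
    have a3 := congrArg φ Y_facts.2.2.2.2.1
    simp only [map_mul, map_inv φ, map_one] at a3
    have xs := Commute.inv_left (c2 (0, 2, 2) rfl)
    have xv := Commute.inv_left (h3.cx v6).symm
    have e1 : φ z * (ee φ (0, 2, 2))⁻¹⁻¹ = (ee φ (1, 2, 2))⁻¹ := by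
      rw [inv_inv, ← ee_z, ← hp.add, ← hp.neg]; rfl
    have e2 : (ee φ (0, 2, 2))⁻¹ * φ z = (φ r1)⁻¹ := by
      rw [← ee_z, ← ee_r1, ← hp.neg, ← hp.add, ← hp.neg]; rfl
    have e3 : φ z * ψ v6 * (φ z)⁻¹ = (ψ y6)⁻¹ * ψ v6 * ψ y6 := by
      rw [h3.y, ← e1, inv_inv, mul_assoc (φ z) _ (ψ v6), ← h3.cx, ← ee_z,
        show ee φ (1, 2, 2) = (ee φ (0, 2, 2))⁻¹ * (ee φ (2, 2, 2))⁻¹ by
          rw [← hp.neg, ← hp.neg, ← hp.add]; rfl]
      group
    have e4 : (φ z)⁻¹ * ψ v6 * φ z = ψ y6 * ψ v6 * (ψ y6)⁻¹ := by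
      have : Commute (φ z) (ψ y6) := by rw [h3.y, ← ee_z]; exact hp.comm _ (hp.mem' _) _ (hp.mem' _)
      calc _ = (φ z)⁻¹ * (ψ y6 * ((ψ y6)⁻¹ * ψ v6 * ψ y6) * (ψ y6)⁻¹) * φ z := by group
        _ = _ := by
          rw [← e3, ← mul_assoc (ψ y6), ← mul_assoc (ψ y6), ← this.eq, mul_assoc _ (φ z)⁻¹,
            this.inv_inv.eq]
          group
    have d1 := klem (u := (ee φ (0, 2, 2))⁻¹) (v := φ z) (a := (φ qq)⁻¹) (b := ψ v6) (k1.trans m1)
      xs zs (ss φ) (Commute.inv_left (ee_z (φ := φ) ▸ hp.comm _ (hp.mem' _) _ (hp.mem' _)))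
      (by rw [e1, Ne, inv_eq_one]; exact hp.ne_one (by decide)) (k3 (inv_mem (c1 _ rfl))) (k3 zC)
      (inv_mem k2) v3 k4 (fun k hk e => hf k hk (Commute.inv_right_iff.mp (e1 ▸ e)))
      (by rw [inv_pow, hp.cube V27_three, inv_one]) (ee_z (φ := φ) ▸ hp.cube V27_three _)
      zq.inv_right xv (by rw [← map_inv, ← map_mul, Y_facts.2.2.2.2.2.2]) a3 (by
        rw [e3, e4]; simp only [← map_inv, ← map_mul]
        exact (congrArg ψ (by decide)).trans (map_one ψ))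
    refine Commute.inv_left_iff.mp (comm_of_eps (ss φ) xs qs.inv_left xv a3 ?_)
    have d2 := cK _ (inv_mem k2) _ v3
    have d3 := fun l hl => cl2 (ss φ) (k1.trans m1) (c1 _ rfl) oy (k3 (c1 _ rfl)) k4 hf v3
      (inv_mem k2) (l := l) hl
    set δ := (φ qq)⁻¹ * ψ v6 * (φ qq)⁻¹⁻¹ * (ψ v6)⁻¹ with hδ
    obtain ⟨l, hl⟩ := h.cent_r1 (Commute.inv_right_iff.mp (e2 ▸ d1))
    have d4 : n * φ s * n⁻¹ = φ s := by rw [h.ns, mul_inv_cancel_right]
    have d5 : δ ^ 12 = 1 := eq_one_of_cube k4 (pow_mem d2 12) (by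
      rw [← pow_mul, hl, conj_pow, ← map_pow, exp36]; simp)
    have d6 := eq_one_of_cube k4 (pow_mem d2 4) (by rwa [← pow_mul])
    obtain rfl | rfl | ⟨k, hk, e⟩ := cent_s l (cm_of_map h.inj (by
      have := mem_centralizer_singleton_iff.mp (m1 (k1 d2))
      rwa [hl, ← d4, conj_mul, conj_mul, mul_left_inj, mul_right_inj] at this))
      (h.inj (by rwa [hl, conj_pow, conj_eq_one_iff, ← map_pow, ← map_one φ] at d6))
    · exact Or.inl (by simp [hl])
    · exact Or.inr (hl.trans d4)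
    have d7 : φ k * n⁻¹ ∈ centralizer {φ s} := mul_mem (mem_centralizer_singleton_iff.mpr
      (map_cm φ (by clear * - hk; revert k; decide +kernel))) (inv_mem nC)
    have d9 : φ k * n⁻¹ * δ * (φ k * n⁻¹)⁻¹ = φ (k * l * k⁻¹) := by
      rw [hl, ← map_cj φ rfl]; group
    have d8 : ψ v6 * φ (k * l * k⁻¹) * (ψ v6)⁻¹ = φ (k * l * k⁻¹) ∨
        ψ v6 * φ (k * l * k⁻¹) * (ψ v6)⁻¹ = φ (k * l * k⁻¹) * φ s := by
      rw [← d9]
      generalize φ k * n⁻¹ = g at d7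
      rw [show ψ v6 * (g * δ * g⁻¹) * (ψ v6)⁻¹ =
        g * (g⁻¹ * ψ v6 * g * δ * (g⁻¹ * ψ v6 * g)⁻¹) * g⁻¹ by group]
      refine (d3 _ (inv_conj_mem_of_mem_normalizer (k3 d7) v3)).imp (fun e => by rw [e]) fun e => ?_
      rw [e, ← conj_mul, mem_centralizer_singleton_iff.mp d7, mul_inv_cancel_right]
    rw [hδ, inv_inv, mul_assoc, mul_assoc, ← mul_assoc (ψ v6), inv_mul_eq_one, inv_mul_eq_iff_eq_mul,
      eq_comm]
    rcases e with e | e <;> rw [e] at d8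
    · exact d8
    · rwa [map_mul, ← conj_mul, mem_centralizer_singleton_iff.mp v1, mul_inv_cancel_right,
        mul_left_inj, mul_left_inj] at d8

end Cfsg.Agent.P43
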