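import Cfsg.Agent.P43.ModS
import Cfsg.Agent.P43.RealC
import Cfsg.Agent.P43.Wrap

/-! The identification of the group. -/

set_option autoImplicit false
set_option maxRecDepth 100000
set_option synthInstance.maxSize 4096

namespace Cfsg.Agent.P43

open Subgroup Cfsg.Agent.Mat Cfsg.Agent.Char Cfsg.Agent.Local Cfsg.Agent.Amalg L Equiv

attribute [local irreducible] memN r1 r2 r3 z s sg qq eL cmul cinv iL r4 nP el msP msL msW msS iP iW
  tW rho lt
attribute [local instance 10000] List.decidableBAll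

theorem act48_z : ∀ u ∈ act48, (lin u (2, 2, 2) = (2, 2, 2) ∨
    cls (lin u (2, 2, 2)) = cls (1, 0, 0)) ∨ (-lin u (2, 2, 2) = (2, 2, 2) ∨
    cls (-lin u (2, 2, 2)) = cls (1, 0, 0)) := by decide +kernel

variable {G : Type*} [Group G] {φ : L →* G} {n t : G}

theorem RR.norm_le (h : RR φ n t) {H : Subgroup G} (h1 : ∀ l, φ l ∈ H) (h2 : n ∈ H) (h3 : t ∈ H) :
    normalizer (JJ φ : Set G) ≤ H := fun g hg => by
  obtain ⟨u, hu, e⟩ := h.nor g hg
  have h4 : ∀ k, k * φ z = φ z * k → k ∈ H := fun k hk => by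
    obtain ⟨l, rfl⟩ := h.cent k hk
    exact h1 l
  have h5 : ∀ {k f}, Acts (ee φ) k f → f (2, 2, 2) = (2, 2, 2) ∨ cls (f (2, 2, 2)) = cls (1, 0, 0) →
      k ∈ H := fun {k f} e e1 => by
    rcases e1 with e1 | e1
    · exact h4 k (ee_z (φ := φ) ▸ e.comm e1)
    · obtain ⟨a, ha, e2⟩ := cls_act _ _ e1
      obtain ⟨l, hl⟩ := real6' φ ha
      exact (H.mul_mem_cancel_left (mul_mem h2 (h1 l))).mp (h4 (n * φ l * k)
        (ee_z (φ := φ) ▸ ((h.act.mul hl).mul e).comm (by rw [e2]; rfl)))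
  exact (act48_z u hu).elim (h5 e) fun e1 =>
    (H.mul_mem_cancel_left h3).mp (h5 (h.ht.act.mul e) e1)

variable [Finite G]

theorem HN.top (h : HN φ n) {M : Type*} [Group M] {s' : M} (hM : ∃ m x u, ED s' m x u) {f : M →* G}
    (hf : Function.Injective f) (hs : f s' = φ s) (hL : ∀ l, φ l ∈ f.range) (hn : n ∈ f.range)
    (hN : normalizer (JJ φ : Set G) ≤ f.range) (hx : centralizer {ee φ (0, 2, 2)} ≤ f.range)
    (hy : centralizer {ee φ (1, 2, 2)} ≤ f.range)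
    (hC : (∀ u ∈ f.range, orderOf u = 3 → WC f.range u) → centralizer {φ s} ≤ f.range) :
    Nonempty (G ≃* M) := by
  obtain ⟨m, x, u, hM⟩ := hM
  have h3 := h.wc3 hL hN (by
    simp only [List.forall_mem_cons]
    refine ⟨fun g hg => ?_, hx, hy, fun g hg => ?_, by simp⟩
    · obtain ⟨l, rfl⟩ := h.cent_r1 (ee_r1 (φ := φ) ▸ mem_centralizer_singleton_iff.mp hg)
      exact mul_mem (mul_mem hn (hL l)) (inv_mem hn)
    · have a1 : Acts (ee φ) (φ lt) fun v => (v.2.2, v.2.1, v.1) := fun v => map_cj φ (lt_act v)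
      have a2 := (acts_s φ).mul (a1.mul (h.act.mul a1)) (1, 2, 2)
      have a3 := mul_mem (hL s) (mul_mem (hL lt) (mul_mem hn (hL lt)))
      generalize φ s * (φ lt * (n * φ lt)) = k at a2 a3
      have a4 : k * ee φ (1, 2, 2) * k⁻¹ = ee φ (0, 1, 2) := a2
      rw [mem_centralizer_singleton_iff, ← a4] at hg
      have a5 := hy (mem_centralizer_singleton_iff.mpr (show k⁻¹ * g * k * ee φ (1, 2, 2) = _ by
        calc _ = k⁻¹ * (g * (k * ee φ (1, 2, 2) * k⁻¹)) * k := by group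
          _ = _ := by rw [hg]; group))
      rwa [mul_mem_cancel_right a3, mul_mem_cancel_left (inv_mem a3)] at a5)
  exact ⟨(MulEquiv.ofBijective f ⟨hf, MonoidHom.range_eq_top.mp
    (hM.top hf h3 (hs ▸ hC h3))⟩).symm⟩

theorem NR.iso (h : NR φ n) : Nonempty (G ≃* P) := by
  obtain ⟨M, K, -, -, k1, -, k2, k3, k4, -, k5⟩ := h.exists_K
  obtain ⟨f, a1, a2, -, a3⟩ := h.exists_hom k5
  have hL : ∀ l, φ l ∈ f.range := fun l => ⟨_, a2 l⟩
  have hN := h.norm_le hL a3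
  refine h.top edP a1 (a2 s) hL a3 hN
    (fun g hg => hN (h.cent_x (mem_centralizer_singleton_iff.mp hg)).1) (fun g hg => ?_)
    fun h3 => h.cent_s_le hL h3 k1 k2 k3 k4
  obtain ⟨w, rfl | rfl⟩ := h.cent_y (mem_centralizer_singleton_iff.mp hg)
  exacts [hL _, mul_mem (hL _) (hL _)]

theorem RR.iso (h : RR φ n t) : Nonempty (G ≃* W6) ∨ Nonempty (G ≃* S7) := by
  obtain ⟨m1, m2, m3⟩ := h.main
  have hp := h.par
  obtain ⟨f, a1, a2, a3, -⟩ := h.exists_hom m2
  obtain ⟨-, -, -, -, -, -, -, -, -, -, w1, w2, w3⟩ := S_words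
  have a4 : f nP = n := by
    obtain ⟨w, e⟩ := h.coset h.act (c := f nP) (fun v => by
      rw [ee, ee, ← a2, ← a2, ← P_facts.2.2.2.2.2.1, map_mul, map_mul, map_inv]) (by decide)
    have e1 : f (iL (eL w) * nP) = n := by rw [map_mul, a2, e, ee]
    rw [← e1, w3 w (a1 (by rw [map_mul, e1, h.nn, map_one]))
      (a1 (by rw [map_mul, map_mul f _ (iL r2), map_inv, e1, a2, a3])), eL_zero]
    simp
  obtain ⟨F, b1, b2⟩ := exists_homW f h.ht.tt (by
    simp only [List.forall_mem_cons, a2, a3]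
    refine ⟨by rw [← ee_r1, h.ht.act, hp.neg], h.ht.tr, by rw [← ee_r3, h.ht.act, hp.neg], ?_,
      by simp⟩
    rw [conj_inv, ← h.ht.tr, show t * (n * φ r2 * n⁻¹) * t⁻¹ = t * n * φ r2 * (t * n)⁻¹ by group,
      h.tn]
    group)
  have b3 : ∀ l, F (iP (iL l)) = φ l := fun l => (b1 _).trans (a2 l)
  have b4 : F (iP nP) = n := (b1 _).trans a4
  have z1 : φ z ≠ 1 := fun e => by simpa [e] using h.oz
  have hy : ∀ {H : Subgroup G}, normalizer (JJ φ : Set G) ≤ H → centralizer {ee φ (1, 2, 2)} ≤ H :=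
    fun hN g hg => hN (h.cent_y (mem_centralizer_singleton_iff.mp hg)).1
  rcases h.dich with hD | ⟨X, ψ, hD⟩
  · have hL : ∀ l, φ l ∈ F.range := fun l => ⟨_, b3 l⟩
    have hN := h.norm_le hL ⟨_, b4⟩ ⟨_, b2⟩
    exact Or.inl (h.top edW (injW (b3 z ▸ z1)) (b3 s) hL ⟨_, b4⟩ hN
      (fun g hg => hN (hD g (mem_centralizer_singleton_iff.mp hg))) (hy hN) (m1 _ hL))
  have c1 : F tauW = tau φ n t := by simp only [tauW, tau, map_mul, map_inv, b2, b3, b4]
  have c2 : ψ (swap 1 2) = n * φ (s * eL (1, 2, 2)) := by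
    rw [map_mul, ← mul_assoc, ← hD.s1, ← ee, ← hD.y, ← map_mul]
    exact congrArg ψ (by decide)
  have c3 : ψ (swap 3 4) = φ (eL (0, 1, 2) * s) := by
    rw [map_mul, ← hD.s5, ← ee, ← hD.w, ← map_mul]
    exact congrArg ψ (by decide)
  have c4 : ψ t6 = tau φ n t := by
    obtain ⟨p, e⟩ := (hD.ran _).mp (hD.inv (h.acts_tau.comm rfl) (pow_four_of_sq h.tau2))
    have d1 := congrArg F w1
    have d2 := congrArg F w2
    simp only [map_mul F, map_mul iP, map_inv, c1, b3, b4] at d1 d2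
    rw [← e, (s6_facts p).2.2.1 (hD.inj (by rw [map_mul, map_mul, map_inv, e, hD.s5, d1, c2]))
      (hD.inj (by rw [map_mul, map_mul, map_inv, e, hD.s1, d2, c3]))
      (hD.inj (by rw [map_mul, e, h.tau2, map_one]))]
  have c5 : Commute (ψ (v6 * swap 4 5)) n := by
    rw [← hD.n6]; exact Commute.map (show _ * n6 = n6 * _ by decide) ψ
  have c6 : n * ψ (v6 * swap 4 5) = ψ (swap 2 3) := by
    rw [← hD.n6, ← map_mul]; exact congrArg ψ (by decide)
  obtain ⟨E, d1, d2⟩ := exists_homS F (c := ψ (v6 * swap 4 5))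
    (by rw [← map_mul, ← map_one ψ]; exact congrArg ψ (by decide)) (by
      simp only [List.forall_mem_cons, b2, b3, b4]
      refine ⟨?_, hD.cx _, ?_, c5, by simp⟩
      · rw [map_mul, hD.s5]
        exact Commute.mul_left (m3 X ψ hD).symm (map_cm φ s_facts.2.2.2.1.symm)
      · rw [← mul_inv_cancel_right t n]
        exact Commute.mul_right (hD.ca _).symm c5.inv_right)
    (by rw [b4, b3, c6, ← c3, ← map_mul, ← map_pow, ← map_one ψ]; exact congrArg ψ (by decide))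
    (by rw [c1, ← c4, ← map_mul, ← map_pow, ← map_one ψ]; exact congrArg ψ (by decide))
  have hL : ∀ l, φ l ∈ E.range := fun l => ⟨_, (d1 _).trans (b3 l)⟩
  have hn : n ∈ E.range := ⟨_, (d1 _).trans b4⟩
  have hN := h.norm_le hL hn ⟨_, (d1 _).trans b2⟩
  refine Or.inr (h.top edS (injS (by rwa [d1, b3])) ((d1 _).trans (b3 s)) hL hn hN
    (fun g hg => ?_) (hy hN) (m1 _ hL))
  obtain ⟨i, k, hk, rfl⟩ := hD.dec g (mem_centralizer_singleton_iff.mp hg)
  obtain ⟨p, rfl⟩ := (hD.ran k).mp hk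
  refine mul_mem (pow_mem (hL _) i) (Submonoid.closure_le (S := (E.range.comap ψ).toSubmonoid).mpr
    ?_ ((Perm.mclosure_swap_castSucc_succ 5).ge (Submonoid.mem_top p)))
  rintro _ ⟨j, rfl⟩
  fin_cases j
  exacts [show ψ (swap 0 1) ∈ _ from hD.s1 ▸ mul_mem hn (hL _),
    show ψ (swap 1 2) ∈ _ from c2 ▸ mul_mem hn (hL _),
    show ψ (swap 2 3) ∈ _ from c6 ▸ mul_mem hn ⟨_, d2⟩, show ψ (swap 3 4) ∈ _ from c3 ▸ hL _,
    show ψ (swap 4 5) ∈ _ from hD.s5 ▸ hL _]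

end Cfsg.Agent.P43
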