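import Cfsg.Agent.P43.CaseA
import Cfsg.Agent.Char.A9Mod
import Cfsg.Agent.Perm2.Dihedral
import Cfsg.Agent.S3333

/-! The real case with automiser `S₄ × 2`: centralisers of elements of order three. -/

set_option autoImplicit false
set_option maxRecDepth 100000
set_option synthInstance.maxSize 4096

namespace Cfsg.Agent.P43

open Subgroup Cfsg.Agent.Mat Cfsg.Agent.Char Cfsg.Agent.Local L
open scoped Pointwise

attribute [local irreducible] memN r1 r2 r3 z s sg qq eL cmul cinv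
attribute [local instance 10000] List.decidableBAll

/-- An element interchanging two members of the frame. -/
def lt : L := el msL [2, 5, 2]

theorem lt_act : ∀ v, lt * eL v * lt⁻¹ = eL (v.2.2, v.2.1, v.1) := by decide +kernel

/-- The action of `τ`. -/
def ta (v : V27) : V27 := lin ((0, 2, 0), (2, 0, 0), (1, 1, 1)) v

/-- The action of `τ s`. -/
def ro (v : V27) : V27 := ta (v.1, v.2.2, v.2.1)

variable {G : Type*} [Group G] {φ : L →* G} {n t : G}

/-- The real case with automiser `S₄ × 2`. -/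
structure RR (φ : L →* G) (n t : G) : Prop extends HN φ n where
  ht : HT2 φ t
  tn : t * n = n * t
  nor : ∀ g ∈ normalizer (JJ φ : Set G), ∃ u ∈ act48, Acts (ee φ) g (lin u)

/-- The involution `τ`. -/
def tau (φ : L →* G) (n t : G) : G := φ lt * (t * n) * (φ lt)⁻¹

theorem RR.acts_a (h : RR φ n t) : Acts (ee φ) (t * n) fun v => -nu v := h.ht.act.mul h.act

theorem RR.aa (h : RR φ n t) : t * n * (t * n) = 1 := by
  rw [mul_assoc, ← mul_assoc n, ← h.tn, mul_assoc, h.nn, mul_one, h.ht.tt]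

theorem RR.sa (h : RR φ n t) : φ s * (t * n) = t * n * φ s :=
  (Commute.mul_left h.ht.ts h.ns).symm

theorem RR.sasa (h : RR φ n t) : φ s * (t * n) * (φ s * (t * n)) = 1 := by
  rw [mul_assoc, ← mul_assoc (t * n), ← h.sa, mul_assoc (φ s), h.aa, mul_one, ss]

theorem RR.acts_tau (h : RR φ n t) : Acts (ee φ) (tau φ n t) ta := by
  have h1 : Acts (ee φ) (φ lt) fun v => (v.2.2, v.2.1, v.1) := fun v => map_cj φ (lt_act v)
  exact ((h1.mul h.acts_a).mul (h1.inv (f' := fun v => (v.2.2, v.2.1, v.1)) fun _ => rfl)).congr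
    (by decide)

theorem RR.tau2 (h : RR φ n t) : tau φ n t * tau φ n t = 1 := by
  rw [tau, conj_mul, h.aa]; group

theorem acts_one (e : V27 → G) : Acts e 1 fun v => v := fun v => by group

theorem Acts.pow {e : V27 → G} {g : G} {f : V27 → V27} (h : Acts e g f) (i : ℕ) :
    Acts e (g ^ i) f^[i] := by
  induction i with
  | zero => rw [pow_zero]; exact acts_one e
  | succ i ih => rw [pow_succ]; exact ih.mul h

variable [Finite G]

theorem n9_of {u p : G} (ho : orderOf p = 3) (hp : p * u = u * p)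
    (h : ∀ g, g * u = u * g → g * p = p * g → g ^ 4 ∈ zpowers p) :
    ¬ 9 ∣ Nat.card (centralizer {u}) := by
  have h1 : IsSylowIn 3 (zpowers p) (centralizer {u}) := by
    refine isSylowIn_of_maximal (zpowers_le.mpr (mem_centralizer_singleton_iff.mpr hp))
      (isPGroup_zpowers_of_orderOf_eq ho) fun Q hQ h1 h2 => ?_
    by_contra hne
    obtain ⟨g, hg, h4, h5⟩ := exists_mem_normalizer_of_lt_of_isNilpotent hQ.isNilpotent
      (lt_of_le_of_ne h1 (Ne.symm hne))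
    have h6 := coprime_four_of_isPGroup hQ hg
    refine h5 (mem_of_pow_mem_of_coprime h6 (h g (mem_centralizer_singleton_iff.mp (h2 hg))
      (mem_centralizer_singleton_iff.mp (mem_of_pow_mem_of_coprime h6 ?_))))
    rw [mem_centralizer_singleton_iff, show 4 = 2 * 2 from rfl, pow_mul]
    refine (Commute.pow_left (mul_inv_eq_iff_eq_mul.mp ?_) 2).eq
    rw [show g ^ 2 * p * (g ^ 2)⁻¹ = g * (g * p * g⁻¹) * g⁻¹ by rw [sq]; group]
    rcases mem_zpowers_three ho (conj_mem_of_mem_normalizer h4 (mem_zpowers _)) with e | e | e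
    · exact absurd ho (by simp [conj_eq_one_iff.mp e])
    · rw [e, e]
    · rw [e, ← conj_inv, e, inv_inv]
  rw [← card_mul_relIndex h1.le, Nat.card_zpowers, ho]
  exact fun e => h1.not_dvd (Nat.dvd_of_mul_dvd_mul_left (by norm_num : 0 < 3) e)

theorem Base.n9 (h : Base φ) {u : G} {f : V27 → V27} {p : V27} (hu : Acts (ee φ) u f) (h0 : p ≠ 0)
    (hf : ∀ v, f v = v ↔ v = 0 ∨ v = p ∨ v = -p)
    (h4 : ∀ g, g * u = u * g → g * ee φ p = ee φ p * g → g ^ 4 ∈ JJ φ) {i : G} (hi : IsConj u i) :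
    ¬ 9 ∣ Nat.card (centralizer {i}) := by
  rw [← card_centralizer_eq_of_isConj hi]
  refine n9_of (orderOf_eq_prime (h.par.cube V27_three p) (h.par.ne_one h0))
    (hu.comm ((hf p).mpr (by simp))).symm fun g h1 h2 => ?_
  obtain ⟨v, e⟩ := h4 g h1 h2
  rw [← e, par_zp h.par V27_three h0, ← hf]
  exact hu.fix h.par (e ▸ (Commute.pow_left h1 4).symm.eq)

omit [Finite G] in
theorem Base.nine_s (h : Base φ) {i : G} (hi : IsConj (φ s) i) : 9 ∣ Nat.card (centralizer {i}) := by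
  rw [← card_centralizer_eq_of_isConj hi, ← h.card_D]
  exact card_dvd_of_le inf_le_right

theorem RR.fus (h : RR φ n t) {g : G} {u v : V27} (e : g * ee φ u * g⁻¹ = ee φ v) :
    ∃ a ∈ act48, lin a u = v := by
  obtain ⟨m, -, h1, h2⟩ := h.fusion le_top (mem_top g) e
  obtain ⟨a, ha, h3⟩ := h.nor m h1
  exact ⟨a, ha, h.par.inj ((h3 u).symm.trans h2)⟩

theorem RR.cent_y (h : RR φ n t) {g : G} (hg : g * ee φ (1, 2, 2) = ee φ (1, 2, 2) * g) :
    g ∈ normalizer (JJ φ : Set G) ∧ g ^ 4 ∈ JJ φ ∧ ∃ w, g = ee φ w ∨ g = ee φ w * φ s ∨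
      g = ee φ w * (t * n) ∨ g = ee φ w * (φ s * (t * n)) := by
  have hp := h.par
  have hsa := (acts_s φ).mul h.acts_a
  have h1 : ∀ g ∈ centralizer {ee φ (1, 2, 2)}, g ∈ normalizer (JJ φ : Set G) →
      ∃ w, g = ee φ w ∨ g = ee φ w * φ s ∨ g = ee φ w * (t * n) ∨
        g = ee φ w * (φ s * (t * n)) := by
    intro g hg hn
    obtain ⟨u, hu, e⟩ := h.nor g hn
    rcases (by decide +kernel : ∀ u ∈ act48, lin u (1, 2, 2) = (1, 2, 2) → (∀ v, lin u v = v) ∨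
      (∀ v, lin u v = (v.1, v.2.2, v.2.1)) ∨ (∀ v, lin u v = -nu v) ∨
      ∀ v, lin u v = ((-nu v).1, (-nu v).2.2, (-nu v).2.1)) u hu
        (e.fix hp (mem_centralizer_singleton_iff.mp hg)) with e1 | e1 | e1 | e1
    · exact (h.cent_J (e.congr e1)).imp fun w => Or.inl
    · exact (h.coset (e.congr e1) (acts_s φ) fun _ => rfl).imp fun w e => Or.inr (Or.inl e)
    · exact (h.coset (e.congr e1) h.acts_a (by decide)).imp fun w e => Or.inr (Or.inr (Or.inl e))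
    · exact (h.coset (e.congr e1) hsa (by decide)).imp fun w e => Or.inr (Or.inr (Or.inr e))
  have h3 : L3 (JJ φ) (centralizer {ee φ (1, 2, 2)})
      (fun v => ee φ (lin ((1, 2, 2), (0, 1, 2), (0, 2, 2)) v)) (φ s) (t * n) :=
    ⟨h.wj, fun j hj => mem_centralizer_singleton_iff.mpr (hp.comm _ hj _ (hp.mem' _)),
      par_lin hp (by decide), mem_centralizer_singleton_iff.mpr ((acts_s φ).comm rfl),
      mem_centralizer_singleton_iff.mpr (h.acts_a.comm rfl), ss φ, h.aa, h.sa,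
      fun v => (acts_s φ _).trans (congrArg _ (by revert v; decide)),
      fun v => (h.acts_a _).trans (congrArg _ (by revert v; decide)),
      fun g hg => mem_centralizer_singleton_iff.mp hg, fun g hg hn => by
        obtain ⟨w, e⟩ := h1 g hg hn
        obtain ⟨v, rfl⟩ : ∃ v, lin ((1, 2, 2), (0, 1, 2), (0, 2, 2)) v = w := by
          clear * -; revert w; decide
        exact ⟨v, e⟩⟩
  have h4 := mem_centralizer_singleton_iff.mpr hg
  exact ⟨h3.le_norm h4, (h3.act h4 (h3.le_norm h4)).1, h1 g h4 (h3.le_norm h4)⟩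

theorem RR.cent_yt (h : RR φ n t) {v : V27} (hv : cls v ∈ [36, 24, 21]) {g : G}
    (hg : g * ee φ v = ee φ v * g) : g ∈ normalizer (JJ φ : Set G) := by
  obtain ⟨a, ha, b, hb, e⟩ := (by decide +kernel : ∀ v, cls v ∈ [36, 24, 21] → ∃ a ∈ act6,
    ∃ b ∈ act6, lin a v = (1, 2, 2) ∨ lin b (nu (lin a v)) = (1, 2, 2)) v hv
  obtain ⟨l, hl⟩ := real6' φ ha
  obtain ⟨k, hk⟩ := real6' φ hb
  have key : ∀ {c f}, Acts (ee φ) c f → f v = (1, 2, 2) → g ∈ normalizer (JJ φ : Set G) :=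
    fun {c f} hc e => (mul_mem_cancel_left (hc.norm h.par)).mp
      ((mul_mem_cancel_right (inv_mem (hc.norm h.par))).mp
        (h.cent_y (by rw [← e, ← hc, conj_mul, conj_mul, hg])).1)
  exact e.elim (key hl) (key (hk.mul (h.act.mul hl)))

theorem RR.n9_sa (h : RR φ n t) {i : G} (hi : IsConj (φ s * (t * n)) i) :
    ¬ 9 ∣ Nat.card (centralizer {i}) :=
  h.n9 ((acts_s φ).mul h.acts_a) (p := (1, 2, 2)) (by decide) (by decide)
    (fun _ _ e => (h.cent_y e).2.1) hi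

omit [Finite G] in
theorem Base.conj_coset (h : Base φ) {c : G} (hc : c * c = 1) {w : V27}
    (e : ee φ w * c * (ee φ w * c) = 1) : IsConj c (ee φ w * c) :=
  isConj_iff.mpr ⟨_, inv_conj (h.par.cube V27_three w) hc e⟩

theorem RR.n9_z (h : RR φ n t) {i : G} (hi : i * i = 1) (hz : i * φ z * i⁻¹ = (φ z)⁻¹) :
    ¬ 9 ∣ Nat.card (centralizer {i}) := by
  have hp := h.par
  obtain ⟨m, hm⟩ := h.ht.inv_z hi hz
  obtain ⟨j, hj⟩ : ∃ j, j = tau φ n t * (φ m)⁻¹ * i * (tau φ n t * (φ m)⁻¹)⁻¹ := ⟨_, rfl⟩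
  have h1 : j * ee φ (0, 0, 2) * j⁻¹ = ee φ (0, 0, 1) := by
    have e1 : tau φ n t * (φ m)⁻¹ * φ z * (tau φ n t * (φ m)⁻¹)⁻¹ = ee φ (0, 0, 2) := by
      rw [mul_assoc (tau φ n t), (Commute.inv_left (map_cm φ (z_comm m))).eq, ← ee_z]
      exact Eq.trans (by group) (h.acts_tau (2, 2, 2))
    rw [show ((0, 0, 1) : V27) = -(0, 0, 2) from rfl, hp.neg, ← e1, hj, conj_mul, conj_inv,
      conj_mul, hz, conj_inv]
  have h2 : j * j = 1 := by rw [hj, conj_mul, hi]; group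
  have h3 : ∀ {c f w}, Acts (ee φ) c f → j = ee φ w * c → f (0, 0, 2) = (0, 0, 1) :=
    fun hc e => hp.inj ((par_cj' hp _ (hc _)).symm.trans (e ▸ h1))
  obtain ⟨-, -, w, e | e | e | e⟩ := h.cent_y (g := j) (by
    rw [← show tau φ n t * ee φ (0, 1, 2) * (tau φ n t)⁻¹ = ee φ (1, 2, 2) from h.acts_tau _, hj]
    calc _ = tau φ n t * (φ m)⁻¹ * (i * (φ m * ee φ (0, 1, 2) * (φ m)⁻¹)) * φ m * (tau φ n t)⁻¹ := by
          group
      _ = _ := by rw [hm]; group)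
  · exact absurd (h3 (acts_one _) (e.trans (mul_one _).symm)) (by decide)
  · exact absurd (h3 (acts_s φ) e) (by decide)
  · exact absurd (h3 h.acts_a e) (by decide)
  · exact h.n9_sa ((h.conj_coset h.sasa (e ▸ h2)).trans (by
      rw [← e, hj]; exact (isConj_cj _ _).symm))

theorem RR.sylD (h : RR φ n t) : IsSylowIn 3 (DD φ) (centralizer {φ s}) := by
  refine isSylowIn_of_maximal inf_le_right (h.wj.pg.to_le inf_le_left) fun Q hQ h1 h2 => ?_
  by_contra hne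
  obtain ⟨g, hg, h4, h5⟩ := exists_mem_normalizer_of_lt_of_isNilpotent hQ.isNilpotent
    (lt_of_le_of_ne h1 (Ne.symm hne))
  have h6 := coprime_four_of_isPGroup hQ hg
  refine h5 ⟨mem_of_pow_mem_of_coprime h6 (h.cent_y (mem_centralizer_singleton_iff.mp
    (mem_of_pow_mem_of_coprime h6 ?_))).2.1, h2 hg⟩
  have h7 := conj_mem_of_mem_normalizer h4 ((h.mem_D (v := (1, 2, 2))).mpr rfl)
  obtain ⟨v, e⟩ := h7.1
  obtain ⟨a, ha, rfl⟩ := h.fus e.symm
  rw [mem_centralizer_singleton_iff, show 4 = 2 * 2 from rfl, pow_mul]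
  refine (Commute.pow_left (mul_inv_eq_iff_eq_mul.mp ?_) 2).eq
  rw [show g ^ 2 * ee φ (1, 2, 2) * (g ^ 2)⁻¹ = g * (g * ee φ (1, 2, 2) * g⁻¹) * g⁻¹ by
    rw [sq]; group]
  rcases (by decide +kernel : ∀ a ∈ act48, (lin a (1, 2, 2)).2.1 = (lin a (1, 2, 2)).2.2 →
    lin a (1, 2, 2) = (1, 2, 2) ∨ lin a (1, 2, 2) = -(1, 2, 2)) a ha (h.mem_D.mp (e ▸ h7)) with
    e1 | e1 <;> rw [e1] at e
  · rw [← e, ← e]
  · rw [h.par.neg] at e
    rw [← e, ← conj_inv, ← e, inv_inv]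

theorem RR.not_sa (h : RR φ n t) : ¬ IsConj (φ s) (t * n) := fun hc => by
  have hp := h.par
  obtain ⟨g, hg⟩ := isConj_iff.mp hc.symm
  obtain ⟨c, -, h1⟩ := h.sylD.exists_le_conj (Q := MulAut.conj g • (JJ φ ⊓ centralizer {t * n}))
    ((h.wj.pg.to_le inf_le_left).map _) (by
      rintro _ ⟨j, hj, rfl⟩
      rw [mem_centralizer_singleton_iff, ← hg]
      exact ((Commute.conj_iff g).mpr (mem_centralizer_singleton_iff.mp hj.2)).eq)
  have h2 : ∀ v, -nu v = v → cls v ∈ [36, 24, 21] → c⁻¹ * g * ee φ v * (c⁻¹ * g)⁻¹ = ee φ (1, 2, 2) ∨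
      c⁻¹ * g * ee φ v * (c⁻¹ * g)⁻¹ = (ee φ (1, 2, 2))⁻¹ := fun v hv hv' => by
    have h3 := (Char.mem_conj_smul_iff _ _ _).mp (h1 (conj_mem_conj_smul g
      ⟨hp.mem' v, mem_centralizer_singleton_iff.mpr (h.acts_a.comm hv).symm⟩))
    obtain ⟨u, e⟩ := h3.1
    have e' : c⁻¹ * g * ee φ v * (c⁻¹ * g)⁻¹ = ee φ u := by rw [e]; group
    obtain ⟨a, ha, rfl⟩ := h.fus e'
    rw [e', ← hp.neg]
    exact ((by decide +kernel : ∀ a ∈ act48, ∀ v, cls v ∈ [36, 24, 21] → (lin a v).2.1 =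
      (lin a v).2.2 → lin a v = (1, 2, 2) ∨ lin a v = -(1, 2, 2)) a ha v hv'
        (h.mem_D.mp (e ▸ h3))).imp (congrArg _) (congrArg _)
  rcases h2 (1, 2, 2) rfl (by decide) with e | e <;> rcases h2 (0, 1, 2) rfl (by decide) with e' | e'
  on_goal 2 => rw [← e, conj_inv, ← hp.neg] at e'
  on_goal 3 => rw [← inv_eq_iff_eq_inv, conj_inv, ← hp.neg] at e
  all_goals
    first | rw [← e] at e' | skip
    exact absurd (hp.inj (by simpa using e')) (by decide)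

/-- The decomposition of the centraliser of `x`. -/
structure XD (φ : L →* G) (X : Subgroup G) : Prop where
  le : X ≤ centralizer {ee φ (0, 2, 2)}
  nor : normalizer (centralizer {ee φ (0, 2, 2)} : Set G) ≤ normalizer (X : Set G)
  two : ∀ c, c * ee φ (0, 2, 2) = ee φ (0, 2, 2) * c → (orderOf c).Coprime 3 → c ∈ X
  dec : ∀ g, g * ee φ (0, 2, 2) = ee φ (0, 2, 2) * g → ∃ i : ℕ, ∃ k ∈ X, g = ee φ (0, 2, 2) ^ i * k
  mem : ∀ v, ee φ v ∈ X ↔ -nu v = v

omit [Finite G] in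
theorem RR.stab_x (h : RR φ n t) {g : G} (hg : g * ee φ (0, 2, 2) = ee φ (0, 2, 2) * g)
    (hn : g ∈ normalizer (JJ φ : Set G)) : g ^ 4 ∈ JJ φ ∧ ∃ i < 4, Acts (ee φ) g ro^[i] ∨
      Acts (ee φ) g fun v => ro^[i] (v.1, v.2.2, v.2.1) := by
  obtain ⟨u, hu, e⟩ := h.nor g hn
  obtain ⟨h1, i, hi, h2⟩ := (by decide +kernel : ∀ u ∈ act48, lin u (0, 2, 2) = (0, 2, 2) →
    (∀ v, (lin u)^[4] v = v) ∧ ∃ i < 4, (∀ v, lin u v = ro^[i] v) ∨
      ∀ v, lin u v = ro^[i] (v.1, v.2.2, v.2.1)) u hu (e.fix h.par hg)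
  obtain ⟨w, e'⟩ := h.cent_J ((e.pow 4).congr h1)
  exact ⟨e' ▸ h.par.mem' w, i, hi, h2.imp e.congr e.congr⟩

theorem RR.exists_X (h : RR φ n t) : ∃ X, XD φ X ∧ ((∀ g, g * ee φ (0, 2, 2) = ee φ (0, 2, 2) * g →
    g ∈ normalizer (JJ φ : Set G)) ∨ Nonempty (X ≃* Equiv.Perm (Fin 6))) := by
  have hp := h.par
  obtain ⟨X, a1, a2, a3, a4, a5, a6, a7⟩ := h.cent_tr (p := (0, 2, 2)) (W := centralizer {t * n})
    fun g hg hn => by
      obtain ⟨h1, i, hi, h2⟩ := h.stab_x (mem_centralizer_singleton_iff.mp hg) hn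
      refine ⟨h1, fun v => ?_⟩
      rcases h2 with e | e <;> rw [e, par_sub hp] <;>
        exact mem_centralizer_singleton_iff.mpr (h.acts_a.comm (by
          clear * - hi; revert v i; decide)).symm
  have b0 : JJ φ ≤ centralizer {ee φ (0, 2, 2)} := fun j hj =>
    mem_centralizer_singleton_iff.mpr (hp.comm _ hj _ (hp.mem' _))
  have b1 := mem_centralizer_singleton_iff.mpr (h.act.comm (v := (0, 2, 2)) rfl)
  have b2 : ∀ v, ee φ v ∈ X ↔ -nu v = v := fun v => ⟨fun hv => h.acts_a.fix hp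
    (mem_centralizer_singleton_iff.mp (a6 ⟨hp.mem' v, hv⟩)).symm, fun hv => by
      have := a3 _ b1 _ (b0 (hp.mem' v))
      rw [h.act, ← hp.neg, ← hp.add] at this
      exact (congrArg (ee φ · ∈ X) (by clear * - hv; revert v; decide)).mp this⟩
  have b3 : ∀ v, ∃ i : ℕ, ∃ u, -nu u = u ∧ ee φ v = ee φ (0, 2, 2) ^ i * ee φ u := fun v => by
    obtain ⟨u, h1, e | e | e⟩ := (by decide : ∀ v : V27, ∃ u, -nu u = u ∧
      (v = u ∨ v = (0, 2, 2) + u ∨ v = (0, 2, 2) + (0, 2, 2) + u)) v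
    exacts [⟨0, u, h1, by simp [e]⟩, ⟨1, u, h1, by simp [e, hp.add]⟩,
      ⟨2, u, h1, by rw [e, hp.add, hp.add, sq]⟩]
  have xc : ∀ g ∈ X, g * ee φ (0, 2, 2) = ee φ (0, 2, 2) * g := fun g hg =>
    mem_centralizer_singleton_iff.mp (a1 hg)
  have hX : XD φ X := ⟨a1, a2, fun c hc => a4 c (mem_centralizer_singleton_iff.mpr hc),
    fun g hg => by
      obtain ⟨_, ⟨v, rfl⟩, k, hk, rfl⟩ := (mem_sup_of_left_le_normalizer
        (b0.trans (le_normalizer.trans a2))).mp (a5 (mem_centralizer_singleton_iff.mpr hg))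
      obtain ⟨i, u, h1, e⟩ := b3 v
      exact ⟨i, _, mul_mem ((b2 u).mpr h1) hk, by rw [e, mul_assoc]⟩, b2⟩
  refine ⟨X, hX, ?_⟩
  set S := (JJ φ ⊓ X).subgroupOf X
  have c1 : ∀ g : X, g ∈ S ↔ (g : G) ∈ JJ φ := fun g => ⟨And.left, fun hg => ⟨hg, g.2⟩⟩
  have c2 : ∀ g : X, g ∈ normalizer (S : Set X) ↔ (g : G) ∈ normalizer (JJ φ : Set G) := fun g =>
    ⟨fun hg => mem_normalizer_of_conj_mem (by
      rintro _ ⟨v, rfl⟩
      obtain ⟨i, u, h1, e⟩ := b3 v
      rw [e, ← conj_mul, (Commute.pow_right (xc g g.2) i).eq, mul_inv_cancel_right]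
      exact mul_mem (pow_mem (hp.mem' _) i) (conj_mem_of_mem_normalizer hg
        ((c1 ⟨_, (b2 u).mpr h1⟩).mpr (hp.mem' u))).1),
      fun hg => mem_normalizer_of_conj_mem fun j hj =>
        (c1 _).mpr (conj_mem_of_mem_normalizer hg ((c1 j).mp hj))⟩
  let π := QuotientGroup.mk' (S.subgroupOf (normalizer (S : Set X)))
  have c3 : ∀ g, π g = 1 ↔ Acts (ee φ) g.1.1 fun v => v := fun g =>
    (QuotientGroup.eq_one_iff g).trans ((c1 g.1).trans ⟨by rintro ⟨w, e⟩; exact e ▸ acts_par hp w,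
      fun e => by obtain ⟨w, e⟩ := h.cent_J e; exact e ▸ hp.mem' w⟩)
  have c4 : ∀ g k f, Acts (ee φ) g.1.1 f → Acts (ee φ) k.1.1 f → π g = π k := fun g k f hg hk => by
    rw [← inv_mul_eq_one, ← map_inv, ← map_mul, c3]
    intro v
    change g.1.1⁻¹ * k.1.1 * _ * (g.1.1⁻¹ * k.1.1)⁻¹ = _
    rw [show g.1.1⁻¹ * k.1.1 * ee φ v * (g.1.1⁻¹ * k.1.1)⁻¹ =
      g.1.1⁻¹ * (k.1.1 * ee φ v * k.1.1⁻¹) * g.1.1 by group, hk, ← hg]
    group
  have two : ∀ {c f}, Acts (ee φ) c f → f (0, 2, 2) = (0, 2, 2) → c * c = 1 → c ∈ X :=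
    fun hc e e' => inv_mem_tr a4 (mem_centralizer_singleton_iff.mpr (hc.comm e)) (pow_four_of_sq e')
  let σ : normalizer (S : Set X) := ⟨⟨φ s, two (acts_s φ) rfl (ss φ)⟩,
    (c2 _).mpr ((acts_s φ).norm hp)⟩
  let τ : normalizer (S : Set X) := ⟨⟨tau φ n t, two h.acts_tau rfl h.tau2⟩,
    (c2 _).mpr (h.acts_tau.norm hp)⟩
  have d0 : Acts (ee φ) σ.1.1 _ := acts_s φ
  have d1 : Acts (ee φ) (τ * σ).1.1 ro := h.acts_tau.mul (acts_s φ)
  have d2 : π (τ * σ) ^ 2 ≠ 1 := fun e =>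
    absurd (hp.inj (((d1.pow 2) (1, 0, 0)).symm.trans ((c3 ((τ * σ) ^ 2)).mp (by rwa [map_pow]) _)))
      (by decide)
  have d3 : π σ * π σ = 1 := by rw [← map_mul, c3]; exact d0.mul d0
  have d4 : π τ * π τ = 1 := by
    rw [← map_mul, c3]; exact (h.acts_tau.mul h.acts_tau).congr (by decide)
  have d5 : π σ * π (τ * σ) * π σ = (π (τ * σ))⁻¹ := by
    rw [map_mul, mul_inv_rev, inv_eq_of_mul_eq_one_right d3, inv_eq_of_mul_eq_one_right d4,
      mul_assoc, mul_assoc, d3, mul_one]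
  obtain ⟨eN⟩ := Perm2.nonempty_mulEquiv_dihedral 4 (by norm_num) (π (τ * σ)) (π σ)
    (orderOf_eq_prime_pow (p := 2) (n := 1) d2 (by
      rw [← map_pow, c3]; exact (d1.pow 4).congr (by decide))) d3 d5 (by
      rintro ⟨k, e⟩
      have e1 : Commute (π σ) (π (τ * σ)) := e ▸ Commute.zpow_left rfl k
      rw [e1.eq, mul_assoc, d3, mul_one, eq_inv_iff_mul_eq_one, ← sq] at d5
      exact d2 d5) (by
      refine eq_top_iff.mpr fun q _ => ?_
      obtain ⟨g, rfl⟩ := QuotientGroup.mk'_surjective _ q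
      have m1 := pow_mem (subset_closure (k := {π (τ * σ), π σ}) (Set.mem_insert _ _))
      obtain ⟨-, i, -, e | e⟩ := h.stab_x (xc _ g.1.2) ((c2 _).mp g.2)
      · rw [c4 g ((τ * σ) ^ i) _ e (d1.pow i), map_pow]; exact m1 i
      · rw [c4 g ((τ * σ) ^ i * σ) _ e ((d1.pow i).mul d0), map_mul π (_ ^ i), map_pow]
        exact mul_mem (m1 i) (subset_closure (by simp)))
  refine (S3333.result a7.toSylow S rfl ?_ ?_ eN ?_).imp_left fun hS g hg => ?_
  · exact (Nat.card_congr (subgroupOfEquivOfLe inf_le_right).toEquiv).trans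
      (hp.card_subtype (· ∈ JJ φ ⊓ X) (fun v => -nu v = v) (fun _ hg => hg.1) fun v =>
        ⟨fun hv => (b2 v).mp hv.2, fun hv => ⟨hp.mem' v, (b2 v).mpr hv⟩⟩)
  · refine le_antisymm (fun g hg => (c1 g).mpr ?_) fun g hg j hj =>
      Subtype.ext (hp.comm _ hj.1 _ hg.1)
    obtain ⟨w, e⟩ := h.cent_J (g := g) fun v => by
      obtain ⟨i, u, h1, e⟩ := b3 v
      rw [e, mul_inv_eq_iff_eq_mul]
      exact (Commute.pow_right (xc g g.2) i).mul_right (congrArg Subtype.val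
        (hg ⟨_, (b2 u).mpr h1⟩ ((c1 _).mpr (hp.mem' u)))).symm
    exact e ▸ hp.mem' w
  · rintro ⟨_, hd⟩ ⟨⟨v, rfl⟩, -⟩ h1 g hg
    have h2 : Commute g.1 (ee φ v) := congrArg Subtype.val (mem_centralizer_singleton_iff.mp hg)
    rcases (by decide : ∀ v : V27, -nu v = v → v = 0 ∨ cls v ∈ [36, 24, 21] ∨
      cls ((0, 2, 2) + v) ∈ [36, 24, 21]) v ((b2 v).mp hd) with rfl | e | e
    · exact absurd (Subtype.ext hp.zero) h1
    · exact (c2 g).mpr (h.cent_yt e h2)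
    · exact (c2 g).mpr (h.cent_yt e (by rw [hp.add]; exact Commute.mul_right (xc g g.2) h2))
  · obtain ⟨i, k, hk, rfl⟩ := hX.dec g hg
    exact mul_mem (le_normalizer (pow_mem (hp.mem' _) i))
      ((c2 ⟨k, hk⟩).mp (normalizer_eq_top_iff.mpr hS ▸ mem_top _))

end Cfsg.Agent.P43
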