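import Cfsg.Agent.P43.ModW
import Cfsg.Agent.P43.SpP
import Cfsg.Agent.P43.RealA

/-! Involutions of the models, and the identification of the largest model with `Sp₆(2)`. -/

set_option autoImplicit false
set_option maxRecDepth 100000
set_option synthInstance.maxSize 4096

namespace Cfsg.Agent.P43

open Subgroup Cfsg.Agent.Mat Cfsg.Agent.Char Cfsg.Agent.Local Cfsg.Agent.Amalg Matrix L

theorem edP : ∃ n x u, ED (iL s) n x u :=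
  ⟨_, _, _, (by decide +kernel : el msP [0, 3, 0, 3] = iL s) ▸ ed_of_chk (s := el msP [0, 3, 0, 3])
    (m := el msP [0, 3, 0, 5, 2, 6, 5, 2, 6, 5, 2]) (x := el msP [2, 5, 2, 1, 2, 5, 2])
    (u := el msP [0, 0, 3, 0, 5, 2, 5]) clsP_chk cnP_chk edP_chk (by decide +kernel)
    (by decide +kernel) (by decide +kernel) (by decide +kernel)
    (i1_of_chk tP_chk i1P_chk (k := 6) (m := 405) (by decide +kernel) P_cls.1 (by decide))⟩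

theorem edW : ∃ n x u, ED (iP (iL s)) n x u :=
  ⟨_, _, _, (by decide +kernel : el msW [0, 3, 0, 3] = iP (iL s)) ▸ ed_of_chk
    (s := el msW [0, 3, 0, 3]) (m := el msW [0, 3, 0, 5, 2, 6, 5, 2, 6, 5, 2])
    (x := el msW [2, 5, 2, 1, 2, 5, 2]) (u := el msW [0, 0, 3, 0, 5, 2, 5]) clsW_chk cnW_chk edW_chk
    (by decide +kernel) (by decide +kernel) (by decide +kernel) (by decide +kernel)
    (i1_of_chk tW_chk i1W_chk (k := 7) (m := 405) (by decide +kernel) card_W (by decide))⟩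

theorem edS : ∃ n x u, ED (iW (iP (iL s))) n x u :=
  ⟨_, _, _, (by decide +kernel : el msS [0, 3, 0, 3] = iW (iP (iL s))) ▸ ed_of_chk
    (s := el msS [0, 3, 0, 3]) (m := el msS [0, 3, 0, 5, 2, 6, 5, 2, 6, 5, 2])
    (x := el msS [2, 5, 2, 1, 2, 5, 2]) (u := el msS [0, 0, 3, 0, 5, 2, 5]) clsS_chk cnS_chk edS_chk
    (by decide +kernel) (by decide +kernel) (by decide +kernel) (by decide +kernel)
    (i1_of_chk tS_chk i1S_chk (k := 9) (m := 2835) (by decide +kernel) card_S.1 (by decide))⟩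

/-- The involution `τ` of the model. -/
def tauW : W6 := iP (iL lt) * (tW * iP nP) * (iP (iL lt))⁻¹

theorem S_words : el msW [6, 3, 4, 3, 0, 3, 4, 3, 0] =
      iP (iL (eL (0, 2, 2)) * (nP * iL qq * nP⁻¹) * (iL (eL (0, 2, 2)))⁻¹) ∧
    el msW [1, 2, 5, 2, 1, 2, 5, 2, 7] = (el msW [6, 3, 4, 3, 0, 3, 4, 3, 0])⁻¹ ∧
    el msW [2, 5, 2, 1, 2, 5, 2] = iP (iL (eL (0, 2, 2))) ∧
    el msW [3, 4, 3, 0, 3, 4, 3] = (el msW [2, 5, 2, 1, 2, 5, 2])⁻¹ ∧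
    el msW [8] = tW ∧ el msW [8] = (el msW [8])⁻¹ ∧
    el msW [0, 3, 0, 5, 2, 6, 5, 2, 6, 5, 2] = iP nP ∧
    el msW [3, 4, 7, 3, 4, 7, 3, 4, 1, 2, 1] = (el msW [0, 3, 0, 5, 2, 6, 5, 2, 6, 5, 2])⁻¹ ∧
    el msW [3, 1, 4, 3, 1, 4, 3, 0, 3, 0, 3] = iP (iL (eL (0, 1, 2) * s)) ∧
    el msW [0, 2, 1, 5, 2, 1, 5, 2, 7, 4, 7, 8] = tauW ∧
    tauW * iP (iL s) * tauW⁻¹ = iP (nP * iL (s * eL (1, 2, 2))) ∧
    tauW * iP (nP * iL s) * tauW⁻¹ = iP (iL (eL (0, 1, 2) * s)) ∧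
    ∀ w, iL (eL w) * nP * (iL (eL w) * nP) = 1 →
      iL (eL w) * nP * iL r2 * (iL (eL w) * nP)⁻¹ = r4 → w = 0 := by decide +kernel

/-- A symplectic matrix over the field with two elements. -/
def sp2 (A B C D : Matrix (Fin 3) (Fin 3) (ZMod 2))
    (h : fromBlocks A B C D * J (Fin 3) (ZMod 2) * (fromBlocks A B C D)ᵀ = J (Fin 3) (ZMod 2) := by
      decide +kernel) : SpG 3 (ZMod 2) := ⟨fromBlocks A B C D, SymplecticGroup.mem_iff.2 h⟩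

/-- Generators of `Sp₆(2)`. -/
def tv2 : List (SpG 3 (ZMod 2)) := [
  sp2 !![1, 0, 0; 0, 0, 0; 0, 0, 1] !![0, 0, 1; 0, 1, 0; 1, 0, 0] !![0, 0, 1; 0, 1, 0; 1, 0, 0] !![0, 0, 0; 0, 1, 0; 0, 0, 0],
  sp2 !![0, 0, 0; 0, 1, 0; 0, 0, 0] !![0, 0, 1; 0, 1, 0; 1, 0, 0] !![0, 0, 1; 0, 1, 0; 1, 0, 0] !![1, 0, 0; 0, 0, 0; 0, 0, 1],
  sp2 !![1, 1, 1; 0, 0, 1; 0, 0, 1] !![0, 0, 1; 0, 1, 0; 1, 0, 0] !![0, 0, 1; 0, 1, 0; 1, 0, 0] !![0, 0, 0; 1, 1, 0; 1, 1, 0],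
  sp2 !![0, 1, 1; 0, 1, 1; 0, 0, 0] !![0, 0, 1; 0, 1, 0; 1, 0, 0] !![0, 0, 1; 0, 1, 0; 1, 0, 0] !![1, 0, 0; 1, 0, 0; 1, 1, 1],
  sp2 !![1, 0, 1; 0, 1, 0; 1, 0, 0] !![0, 0, 0; 0, 1, 0; 0, 0, 0] !![0, 0, 0; 0, 1, 0; 0, 0, 0] !![0, 0, 1; 0, 0, 0; 1, 0, 1],
  sp2 !![0, 0, 1; 0, 0, 0; 1, 0, 1] !![0, 0, 0; 0, 1, 0; 0, 0, 0] !![0, 0, 0; 0, 1, 0; 0, 0, 0] !![1, 0, 1; 0, 1, 0; 1, 0, 0],
  sp2 !![0, 1, 1; 0, 0, 1; 0, 0, 0] !![0, 0, 1; 0, 1, 0; 1, 0, 0] !![0, 0, 1; 0, 1, 1; 1, 1, 0] !![1, 0, 0; 1, 1, 0; 1, 1, 1],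
  sp2 !![1, 1, 1; 0, 1, 1; 0, 0, 1] !![0, 0, 1; 0, 1, 0; 1, 0, 0] !![0, 0, 1; 0, 1, 1; 1, 1, 0] !![0, 0, 0; 1, 0, 0; 1, 1, 0],
  sp2 !![1, 0, 1; 0, 1, 0; 0, 0, 1] 0 !![0, 0, 1; 0, 1, 0; 1, 0, 1] !![1, 0, 0; 0, 1, 0; 1, 0, 1],
  sp2 1 0 !![0, 0, 0; 0, 0, 0; 0, 0, 1] 1]

theorem tv2_rel : (∀ r ∈ relsS, (ev tv2 r).1 = 1) ∧
    (ev tv2 [1, 2, 5, 2, 1, 2, 5, 2]).1 (.inl 0) (.inl 0) = 0 := by decide +kernel

attribute [local irreducible] memN r1 r2 r3 z s sg qq eL cmul cinv iL r4 nP el msP msL msW msS iP iW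
  tW rho tauW

theorem exists_equivS {F : Type*} [Field F] [Fintype F] (hF : Fintype.card F = 2) :
    Nonempty (S7 ≃* SpG 3 F) := by
  have : CharP F 2 := charP_of_card_eq_prime hF
  let κ := ZMod.castHom (dvd_refl 2) F
  obtain ⟨f, hf⟩ := exists_hom_words (ms := msS) (gs := tv2.map (spMap κ))
    (show _ = 10 by decide +kernel) (fun l hl => presS l hl) card_S.1.ge (by decide +kernel)
    fun r hr => by rw [← map_ev, show ev tv2 r = 1 from Subtype.ext (tv2_rel.1 r hr), map_one]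
  have h1 := injS (f := f) fun e => by
    rw [show iW (iP (iL z)) = ⟨ev msS [1, 2, 5, 2, 1, 2, 5, 2], ev_mem_cl _ _⟩ by decide +kernel, hf,
      ← map_ev] at e
    have := congrArg (fun g : SpG 3 F => g.1 (.inl 0) (.inl 0)) e
    change κ _ = _ at this
    rw [tv2_rel.2] at this
    simp at this
  refine ⟨MulEquiv.ofBijective f (h1.bijective_of_nat_card_le ?_)⟩
  have h2 := card_sp (n := 3) (F := F)
  rwa [Nat.card_eq_fintype_card (α := F), hF, show spOrd 2 3 = 1451520 from rfl, ← card_S.1] at h2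

theorem exists_homS {G : Type*} [Group G] [Finite G] (f : W6 →* G) {c : G} (cc : c * c = 1)
    (h : ∀ g ∈ [iP (iL qq), iP (iL (eL (0, 2, 2))), tW, iP nP], Commute c (f g))
    (h1 : (f (iP nP) * c * f (iP (iL (eL (0, 1, 2) * s)))) ^ 3 = 1) (h2 : (c * f tauW) ^ 3 = 1) :
    ∃ F : S7 →* G, (∀ g, F (iW g) = f g) ∧ F rho = c := by
  have hl : msW.length = 9 := by decide +kernel
  obtain ⟨w1, w2, w3, w4, w5, w6, w7, w8, w9, w10, -⟩ := S_words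
  simp only [List.forall_mem_cons] at h
  obtain ⟨c1, c2, c3, c4, -⟩ := h
  obtain ⟨F, h1, h2⟩ := exists_ext W_facts.2.1 (rels := relsS)
    (rels' := [[9] ++ [9], [9] ++ [6, 3, 4, 3, 0, 3, 4, 3, 0] ++ [9] ++ [1, 2, 5, 2, 1, 2, 5, 2, 7],
      [9] ++ [2, 5, 2, 1, 2, 5, 2] ++ [9] ++ [3, 4, 3, 0, 3, 4, 3], [9] ++ [8] ++ [9] ++ [8],
      [9] ++ [0, 3, 0, 5, 2, 6, 5, 2, 6, 5, 2] ++ [9] ++ [3, 4, 7, 3, 4, 7, 3, 4, 1, 2, 1],
      (List.replicate 3 ([0, 3, 0, 5, 2, 6, 5, 2, 6, 5, 2] ++ [9] ++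
        [3, 1, 4, 3, 1, 4, 3, 0, 3, 0, 3])).flatten,
      (List.replicate 3 ([9] ++ [0, 2, 1, 5, 2, 1, 5, 2, 7, 4, 7, 8])).flatten])
    (fun l h => presS l (by omega)) card_S.1.ge (by decide +kernel) (by decide +kernel) f c
    (fun gs a1 a2 => by
      rw [hl] at a1 a2
      have k : ∀ u v, u.all (Nat.blt · 9) = true → v.all (Nat.blt · 9) = true →
          el msW v = (el msW u)⁻¹ → Commute c (f (el msW u)) →
          ev gs ([9] ++ u ++ [9] ++ v) = 1 := fun u v hu hv e hc => by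
        rw [ev_append, ev_append, ev_append, a2, a1 u hu, a1 v hv, e, hc.eq, mul_assoc _ c c, cc,
          mul_one, map_inv, mul_inv_cancel]
      have k3 : ∀ u, ev gs (List.replicate 3 u).flatten = ev gs u ^ 3 := fun u => by
        simp [List.replicate, ev_append, pow_three]
      simp only [List.forall_mem_cons]
      refine ⟨by rw [ev_append, a2, cc], k _ _ rfl rfl w2 ?_, k _ _ rfl rfl w4 (w3 ▸ c2),
        k _ _ rfl rfl w6 (w5 ▸ c3), k _ _ rfl rfl w8 (w7 ▸ c4), ?_, ?_, by simp⟩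
      · simp only [w1, map_mul, map_inv]
        exact (c2.mul_right ((c4.mul_right c1).mul_right c4.inv_right)).mul_right c2.inv_right
      · rw [k3, ev_append, ev_append, a2, a1 _ rfl, a1 _ rfl, w7, w9, h1]
      · rw [k3, ev_append, a2, a1 _ rfl, w10, h2]) iW iW_val
  exact ⟨F, h1, by rw [← h2, hl]; unfold rho; rfl⟩

end Cfsg.Agent.P43
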