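import Cfsg.Agent.P43.ModE
import Cfsg.Agent.P43.CaseA

/-! The models of `W(E₆)` and of `Sp₆(2)`. -/

set_option autoImplicit false
set_option maxRecDepth 100000
set_option synthInstance.maxSize 4096

namespace Cfsg.Agent.P43

open Subgroup Cfsg.Agent.Mat Cfsg.Agent.Char Cfsg.Agent.Local L
open scoped Pointwise

theorem exists_ext {n : ℕ} [Fact (n ≤ 256)] {ms ms' : List (CP n)} {m : CP n} (h : ms' = ms ++ [m])
    {rels rels' : List (List ℕ)} {N : ℕ} {G : Type*} [Group G] [Finite G]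
    (hP : ∀ l : List (CP n × G), l.length = ms.length + 1 → (∀ r ∈ rels, ev l r = 1) →
      Nat.card (cl l) ≤ N) (hN : N ≤ Nat.card (cl ms')) (hM : ∀ r ∈ rels, ev ms' r = 1)
    (hr : ∀ r ∈ rels, r.all (Nat.blt · ms.length) = true ∨ r ∈ rels') (f : cl ms →* G) (c : G)
    (hG : ∀ gs : List G, (∀ w, w.all (Nat.blt · ms.length) = true → ev gs w = f (el ms w)) →
      ev gs [ms.length] = c → ∀ r ∈ rels', ev gs r = 1) (i : cl ms →* cl ms')
    (hi : ∀ g, (i g).1 = g.1) : ∃ F : cl ms' →* G, (∀ g, F (i g) = f g) ∧ F (el ms' [ms.length]) = c := by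
  let gs := ms.attach.map fun a => f ⟨a.1, mem_cl a.2⟩
  have h0 : ∀ w, ev gs w = f (el ms w) := fun w => by
    rw [show gs = (ms.attach.map fun a => (⟨a.1, mem_cl a.2⟩ : cl ms)).map f by simp [gs], ← map_ev]
    refine congrArg f (Subtype.ext ((map_ev (cl ms).subtype _ w).trans ?_))
    simp [el, Function.comp_def]
  have h1 : gs.length = ms.length := by simp [gs]
  have h2 : ∀ w, w.all (Nat.blt · ms.length) = true → ev (gs ++ [c]) w = f (el ms w) := fun w hw => by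
    rw [← ev_take hw, ← h1, List.take_left, h0]
  have h3 : ∀ w, w.all (Nat.blt · ms.length) = true → ev ms' w = ev ms w := fun w hw => by
    rw [← ev_take hw, h, List.take_left]
  have h4 : ev (gs ++ [c]) [ms.length] = c := by simp [ev, ← h1]
  obtain ⟨F, hF⟩ := exists_hom_words (ms := ms') (gs := gs ++ [c]) (by simp [h, h1])
    (fun l hl => hP l (by simpa [h1] using hl)) hN hM fun r hr' => (hr r hr').elim (fun e => by
      rw [h2 r e, show el ms r = 1 from Subtype.ext ((h3 r e).symm.trans (hM r hr')), map_one])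
      (hG _ h2 h4 r)
  refine ⟨F, fun g => ?_, (hF _).trans h4⟩
  obtain ⟨w, rfl⟩ := el_surj g
  obtain ⟨w', e1, e2⟩ : ∃ w' : List ℕ, w'.all (Nat.blt · ms.length) = true ∧ ev ms w' = ev ms w := by
    induction w with
    | nil => exact ⟨[], rfl, rfl⟩
    | cons a w ih =>
      obtain ⟨w', e1, e2⟩ := ih
      by_cases ha : a < ms.length
      · exact ⟨a :: w', by simpa [ha] using e1, by rw [ev, ev, e2]⟩
      · exact ⟨w', e1, by rw [ev, e2, List.getD_eq_default _ _ (not_lt.mp ha), one_mul]⟩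
  rw [show el ms w = el ms w' from Subtype.ext e2.symm, ← h2 w' e1, ← hF]
  exact congrArg F (Subtype.ext ((hi _).trans (h3 w' e1).symm))

/-- The model of `W(E₆)`. -/
abbrev W6 := cl msW

/-- The model of `Sp₆(2)`. -/
abbrev S7 := cl msS

/-- The inclusion of `P`. -/
def iP : P →* W6 := inclusion (closure_mono (by decide +kernel : ∀ x ∈ msP, x ∈ msW))

/-- The inclusion of `W`. -/
def iW : W6 →* S7 := inclusion (closure_mono (by decide +kernel : ∀ x ∈ msW, x ∈ msS))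

/-- The element `t`. -/
def tW : W6 := el msW [8]

/-- The element `ρ`. -/
def rho : S7 := el msS [9]

theorem iP_inj : Function.Injective iP := inclusion_injective _

theorem iW_inj : Function.Injective iW := inclusion_injective _

theorem iP_val (g : P) : (iP g).1 = g.1 := rfl

theorem iW_val (g : W6) : (iW g).1 = g.1 := rfl

theorem W_facts : msW = msP ++ [tW.1] ∧ msS = msW ++ [rho.1] ∧ tW * tW = 1 ∧
    (∀ a ∈ msP, tW.1 * a * tW.1⁻¹ = a⁻¹) ∧ tW * iP (iL z) * tW⁻¹ = (iP (iL z))⁻¹ ∧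
    (iL z)⁻¹ ≠ iL z ∧ (iL z)⁻¹ ≠ iL r1 ∧ (iL z)⁻¹ ≠ r4 ∧ iL z * r4 ≠ r4 * iL z ∧
    (r1 * sg) ^ 3 = z⁻¹ ∧
    (∀ l : L, iL l * r4 * (iL l)⁻¹ * iL r1 = iL r1 * (iL l * r4 * (iL l)⁻¹) →
      iL l * r4 * (iL l)⁻¹ * iL r2 = iL r2 * (iL l * r4 * (iL l)⁻¹) →
      ∃ k ∈ [1, z, z⁻¹], iL l * r4 * (iL l)⁻¹ = iL k * r4 * (iL k)⁻¹) ∧
    ∀ b : L, r1 * b * r1 = b * r1 * b → ∀ c : L, r1 * c = c * r1 → b * c * b = c * b * c →
      z = r1⁻¹ * (b * (c⁻¹ * (b * (r1⁻¹ * (b * (c⁻¹ * b)))))) →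
      ∃ k : L, k * r1 * k⁻¹ = r1 ∧ k * b * k⁻¹ = r2 ∧ k * c * k⁻¹ = r3 := by decide +kernel

theorem S_facts : (∀ a ∈ msW, lk a.1 27 = 27) ∧
    ∀ j < 28, j = 27 ∨ ∃ w ∈ [[3, 5, 0], [6, 5, 1], [4, 0], [1], [5], [7, 4, 0], [3, 5], [2, 4, 0],
      [5, 1], [4], [0], [3, 5, 1], [2, 4], [], [5, 0], [4, 1], [6, 5, 0], [0, 2, 4, 0], [6, 4, 1],
      [2, 5, 0], [0, 2, 5, 0], [6, 4, 0], [3, 4, 0], [3, 4], [7, 5, 0], [2, 5], [3, 4, 1]],
      lk (iW (el msW w) * rho).1.1 27 = j := by decide +kernel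

theorem card_SL : Nat.card SL = 81 :=
  (Nat.card_coe_set_eq _).trans ((enumL.ncard_eq (List.Nodup.pmap
    (fun a _ b _ e => congrArg (·.1.1) e) (nodup_of_lt (by decide +kernel))) inS).trans
      (by decide +kernel))

attribute [local irreducible] memN r1 r2 r3 z s sg qq eL cmul cinv iL r4 nP el msP msL msW msS iP iW
  tW rho

theorem P_nonreal (p : P) : p * iL z * p⁻¹ ≠ (iL z)⁻¹ := fun e => by
  have h : ∀ l c, (iL z)⁻¹ = iL l * c * (iL l)⁻¹ → (iL z)⁻¹ = c := fun l c e => by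
    rwa [eq_mul_inv_iff_mul_eq, ← (Commute.inv_right (map_cm iL (z_comm l))).eq, mul_right_inj] at e
  rcases P_cls.2.2 _ (e ▸ isConj_cj p _) with e | ⟨l, e | e⟩
  exacts [W_facts.2.2.2.2.2.1 e, W_facts.2.2.2.2.2.2.1 (h _ _ e), W_facts.2.2.2.2.2.2.2.1 (h _ _ e)]

theorem W_cases : iP.range.Normal ∧ ∀ g, g ∈ iP.range ∨ g * tW ∈ iP.range := by
  have h0 : ∀ g : W6, g ∈ iP.range ↔ g.1 ∈ cl msP := fun g =>
    ⟨by rintro ⟨p, rfl⟩; exact iP_val p ▸ p.2, fun h => ⟨⟨_, h⟩, Subtype.ext (iP_val _)⟩⟩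
  have h1 : tW ∈ normalizer (iP.range : Set W6) := mem_normalizer_of_conj_mem fun g hg =>
    (h0 _).mpr (cl_le (K := (cl msP).comap (MulAut.conj tW.1).toMonoidHom) (fun a ha => by
      change tW.1 * a * tW.1⁻¹ ∈ cl msP
      rw [W_facts.2.2.2.1 a ha]
      exact inv_mem (mem_cl ha)) ((h0 g).mp hg))
  have h2 : ∀ g, g ∈ iP.range ⊔ zpowers tW := fun g => by
    obtain ⟨g, hg, e⟩ := cl_le (gs := msW) (K := (iP.range ⊔ zpowers tW).map W6.subtype)
      (fun a ha => ⟨⟨a, mem_cl ha⟩, by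
        rcases List.mem_append.mp (W_facts.1 ▸ ha) with e | e
        · exact mem_sup_left ((h0 _).mpr (mem_cl e))
        · exact mem_sup_right ⟨1, (zpow_one _).trans (Subtype.ext (List.mem_singleton.mp e).symm)⟩,
        rfl⟩) g.2
    exact Subtype.ext e ▸ hg
  exact ⟨normalizer_eq_top_iff.mp (eq_top_iff.mpr fun g _ =>
    sup_le le_normalizer (zpowers_le.mpr h1) (h2 g)), fun g => (mem_sup_inv W_facts.2.2.1 h1).mp (h2 g)⟩

theorem cent_W {g : W6} (h : g * iP (iL z) = iP (iL z) * g) : ∃ l, g = iP (iL l) := by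
  rcases W_cases.2 g with ⟨p, rfl⟩ | ⟨p, e⟩
  · obtain ⟨l, rfl⟩ := P_cls.2.1 p (iP_inj (by simpa only [map_mul] using h))
    exact ⟨l, rfl⟩
  · refine absurd (iP_inj ?_) (P_nonreal p)
    rw [map_mul, map_mul, map_inv, map_inv, e, show g * tW * iP (iL z) * (g * tW)⁻¹ =
      g * (tW * iP (iL z) * tW⁻¹) * g⁻¹ by group, W_facts.2.2.2.2.1, ← conj_inv, h,
      mul_inv_cancel_right]

theorem cent_P {g : W6} (h : ∀ p, g * iP p = iP p * g) : g = 1 := by
  obtain ⟨l, rfl⟩ := cent_W (h _)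
  have h1 : ∀ p, iL l * p = p * iL l := fun p => iP_inj (by simpa only [map_mul] using h p)
  rcases center l (cm_of_map iL_inj (h1 _)) (cm_of_map iL_inj (h1 _)) (cm_of_map iL_inj (h1 _)) with
    rfl | rfl | rfl
  · simp
  · exact absurd (h1 r4) W_facts.2.2.2.2.2.2.2.2.1
  · exact absurd (Commute.inv_left_iff.mp (map_inv iL z ▸ h1 r4)) W_facts.2.2.2.2.2.2.2.2.1

theorem card_W : Nat.card W6 = 51840 := by
  refine le_antisymm (presW msW (by decide +kernel) (by decide +kernel)) ?_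
  have h1 := iP.range.card_mul_index
  have h2 : iP.range.index ≠ 1 := fun e => by
    obtain ⟨p, hp⟩ := (index_eq_one.mp e).ge (mem_top tW)
    exact P_nonreal p (iP_inj (by simpa only [map_mul, map_inv, hp] using W_facts.2.2.2.2.1))
  have h3 : iP.range.index ≠ 0 := index_ne_zero_of_finite
  rw [← Nat.card_congr (MonoidHom.ofInjective iP_inj).toEquiv, P_cls.1] at h1
  omega

variable {G : Type*} [Group G]

theorem injW {f : W6 →* G} (h : f (iP (iL z)) ≠ 1) : Function.Injective f :=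
  (injective_iff_map_eq_one f).mpr fun k hk => cent_P fun p => by
    obtain ⟨q, e⟩ := W_cases.1.conj_mem _ ⟨p, rfl⟩ k
    rw [← mul_inv_eq_iff_eq_mul, ← e, injP (f := f.comp iP) h (a₁ := q) (a₂ := p) (by simp [e, hk])]

theorem homP_ext {f g : P →* G} (h1 : ∀ l, f (iL l) = g (iL l)) (h4 : f r4 = g r4) : f = g :=
  MonoidHom.ext fun p => by
    obtain ⟨w, rfl⟩ := el_surj p
    simp only [el_P, map_ev, List.map_cons, map_inv, h1, h4, List.map_nil]

theorem exists_equivW : Nonempty (W6 ≃* MulAut P) := by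
  have := W_cases.1
  let e := MonoidHom.ofInjective iP_inj
  obtain ⟨c, hc⟩ : ∃ c : W6 →* MulAut P, ∀ g p, iP (c g p) = g * iP p * g⁻¹ :=
    ⟨(MulAut.congr e.symm).toMonoidHom.comp MulAut.conjNormal, fun g p =>
      congrArg Subtype.val (e.apply_symm_apply (MulAut.conjNormal g (e p)))⟩
  have h1 : ∀ q p, c (iP q) p = q * p * q⁻¹ := fun q p => iP_inj (by simp [hc])
  have h2 : ∀ g α, c g * α ∈ c.range → α ∈ c.range := fun g α =>
    (c.range.mul_mem_cancel_left ⟨g, rfl⟩).mp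
  have z1 : ∀ l, iL l * iL z * (iL l)⁻¹ = iL z := fun l =>
    mul_inv_eq_iff_eq_mul.mpr (map_cm iL (z_comm l))
  have z4 : ∀ l, iL l * r4 * (iL l)⁻¹ * iL z ≠ iL z * (iL l * r4 * (iL l)⁻¹) := fun l e => by
    rw [← z1 l, conj_mul, conj_mul, mul_left_inj, mul_right_inj] at e
    exact W_facts.2.2.2.2.2.2.2.2.1 e.symm
  have cj : ∀ (α : MulAut P) {p}, α (iL z) = iL z → IsConj (iL z) p → IsConj (iL z) (α p) :=
    fun α p e hp => e ▸ α.toMonoidHom.map_isConj hp
  have s4 : ∀ α : MulAut P, (∀ l, α (iL l) = iL l) → α ∈ c.range := fun α h => by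
    have k : ∀ l, α r4 * iL l = iL l * α r4 ↔ r4 * iL l = iL l * r4 := fun l => by
      rw [← h l, ← map_mul, ← map_mul, α.injective.eq_iff, h l]
    have k1 : ∀ l, α r4 ≠ iL l * iL r1 * (iL l)⁻¹ ∧ α r4 ≠ iL z := fun l =>
      ⟨fun e => W_facts.2.2.2.2.2.2.2.2.1 ((k z).mp (by
        rw [e, map_cj iL rfl, map_cm iL (z_comm _)])).symm,
        fun e => W_facts.2.2.2.2.2.2.2.2.1 ((k z).mp (by rw [e])).symm⟩
    obtain e | ⟨l, e | e⟩ := P_cls.2.2 _ (cj α (h z) (isConj_iff.mpr ⟨_, P_facts.2.2.2.2.2.2.2.2⟩))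
    exacts [absurd e (k1 1).2, absurd e (k1 l).1, by
      obtain ⟨m, hm, e'⟩ := W_facts.2.2.2.2.2.2.2.2.2.2.1 l (e ▸ (k r1).mpr (by decide +kernel))
        (e ▸ (k r2).mpr (by decide +kernel))
      refine ⟨iP (iL m), MulEquiv.toMonoidHom_injective (homP_ext (fun l => ?_)
        ((h1 _ _).trans (e.trans e').symm))⟩
      refine (h1 _ _).trans ((map_cj iL ?_).trans (h l).symm)
      simp only [List.mem_cons, List.not_mem_nil, or_false] at hm
      rcases hm with rfl | rfl | rfl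
      · group
      · rw [← z_comm, mul_inv_cancel_right]
      · rw [← (Commute.inv_right (z_comm l)).eq, mul_inv_cancel_right]]
  have s3 : ∀ α : MulAut P, α (iL z) = iL z → α (iL r1) = iL r1 → α ∈ c.range := fun α hz h => by
    have k : ∀ l, ∃ m, iL m = α (iL l) := fun l => P_cls.2.1 _ (by
      rw [← hz, ← map_mul α, ← map_mul α, map_cm iL (z_comm l)])
    obtain ⟨b, hb⟩ := k r2
    obtain ⟨d, hd⟩ := k r3
    have m : ∀ {x y : L}, x = y → α (iL x) = α (iL y) := fun e => by rw [e]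
    obtain ⟨k, k1, k2, k3⟩ := W_facts.2.2.2.2.2.2.2.2.2.2.2 b
      (iL_inj (by simpa only [map_mul, hb, h] using m rel.2.1)) d
      (iL_inj (by simpa only [map_mul, hd, h] using m rel.2.2.2))
      (iL_inj (by simpa only [map_mul, hb, hd] using m rel.2.2.1))
      (iL_inj (by simpa only [map_mul, map_inv, hb, hd, h, hz] using m words.1))
    refine h2 (iP (iL k)) α (s4 _ (DFunLike.congr_fun (homL_ext
      (f := (c (iP (iL k)) * α).toMonoidHom.comp iL) (g := iL) ?_ ?_ ?_))) <;>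
      change c _ (α _) = _
    · rw [h, h1, map_cj iL k1]
    · rw [← hb, h1, map_cj iL k2]
    · rw [← hd, h1, map_cj iL k3]
  have s2 : ∀ α : MulAut P, α (iL z) = iL z → α ∈ c.range := fun α hz => by
    obtain e | ⟨l, e | e⟩ := P_cls.2.2 _ (cj α hz (isConj_iff.mpr ⟨_, P_facts.2.2.2.1⟩))
    · exact absurd (iL_inj (α.injective (e.trans hz.symm))) (by decide +kernel)
    · refine h2 (iP (iL l⁻¹)) α (s3 _ ?_ ?_) <;> change c _ (α _) = _
      · rw [hz, h1, z1]
      · rw [e, h1, map_inv]; group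
    · exact absurd (by rw [← e, ← hz, ← map_mul α, ← map_mul α, map_cm iL (z_comm r1)]) (z4 l)
  refine ⟨MulEquiv.ofBijective c ⟨(injective_iff_map_eq_one c).mpr fun g hg => cent_P fun p => by
    rw [← mul_inv_eq_iff_eq_mul, ← hc, hg]; rfl, fun α => ?_⟩⟩
  have h3 : IsSylowIn 3 (SL.map iL) ⊤ := ⟨le_top, SL_pgroup, by
    have := (SL.map iL).card_mul_index
    rw [card_map_of_injective iL_inj, card_SL, P_cls.1] at this
    rw [relIndex_top_right]; omega⟩
  obtain ⟨q, -, hq⟩ := h3.exists_le_conj (Block.isPGroup_zpowers (k := 2) (z := α (iL (r1 * sg)))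
    (by rw [← map_pow, ← map_pow, show 3 ^ 2 = 9 from rfl, La_facts.2.2.2.1, map_one, map_one])) le_top
  obtain ⟨a, ha, e⟩ := (Char.mem_conj_smul_iff _ _ _).mp (hq (mem_zpowers _))
  have e1 : c (iP q⁻¹) (α (iL z)) = (iL (a ^ 3))⁻¹ := by
    rw [h1, map_pow, e, ← inv_inv q, inv_inv q⁻¹, conj_pow, ← map_pow, ← map_pow,
      W_facts.2.2.2.2.2.2.2.2.2.1, conj_inv]
    simp
  rcases La_facts.1 a ha with e | e | e <;> rw [e] at e1
  · exact absurd (iL_inj (by simpa using e1)) s_facts.2.2.2.2.2.2.2.1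
  · refine h2 (iP q⁻¹) α (h2 tW _ (s2 _ (iP_inj ?_)))
    change iP (c tW (c (iP q⁻¹) (α _))) = _
    rw [e1, hc, map_inv, ← conj_inv, W_facts.2.2.2.2.1, inv_inv]
  · exact h2 _ α (s2 _ (e1.trans (by simp)))

theorem exists_homW [Finite G] (f : P →* G) {t : G} (tt : t * t = 1)
    (h : ∀ p ∈ [iL r1, iL r2, iL r3, r4], t * f p * t⁻¹ = (f p)⁻¹) :
    ∃ F : W6 →* G, (∀ p, F (iP p) = f p) ∧ F tW = t := by
  have hl : msP.length = 8 := by decide +kernel
  obtain ⟨F, h1, h2⟩ := exists_ext W_facts.1 (rels := relsW)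
    (rels' := [[8, 8], [8, 0, 8, 0], [8, 2, 8, 2], [8, 4, 8, 4], [8, 6, 8, 6]])
    (fun l h => presW l (by omega)) card_W.ge (by decide +kernel) (by decide +kernel) f t
    (fun gs h1 h2 => by
      rw [hl] at h1 h2
      have k : ∀ i p, i < 8 → el msP [i] = p → p ∈ [iL r1, iL r2, iL r3, r4] →
          ev gs ([8] ++ [i] ++ [8] ++ [i]) = 1 := fun i p hi e hp => by
        rw [ev_append, ev_append, ev_append, h2, h1 _ (by simpa using hi), e]
        nth_rewrite 2 [← inv_eq_of_mul_eq_one_right tt]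
        rw [h p hp, inv_mul_cancel]
      simp only [List.forall_mem_cons]
      exact ⟨(ev_append gs [8] [8]).trans (by rw [h2, tt]), k 0 _ (by omega) rfl (by simp [el_P, ev]),
        k 2 _ (by omega) rfl (by simp [el_P, ev]), k 4 _ (by omega) rfl (by simp [el_P, ev]),
        k 6 _ (by omega) rfl (by simp [el_P, ev]), by simp⟩) iP iP_val
  exact ⟨F, h1, by rw [← h2, hl]; unfold tW; rfl⟩

theorem card_S : Nat.card S7 = 1451520 ∧ (∀ g : S7, g • (27 : Fin 28) = 27 → g ∈ iW.range) ∧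
    (∀ g : W6, iW g • (27 : Fin 28) = 27) ∧
    ∀ j : Fin 28, j ≠ 27 → ∃ g, (iW g * rho) • (27 : Fin 28) = j := by
  have h1 : ∀ g : W6, iW g ∈ MulAction.stabilizer S7 (27 : Fin 28) := fun g => by
    change (iW g).1 • (27 : Fin 28) = 27
    rw [iW_val]
    exact cl_le (K := MulAction.stabilizer (CP 28) (27 : Fin 28)) (fun a ha =>
      Fin.ext ((CP.smul_val a 27).trans (S_facts.1 a ha))) g.2
  have h2 : ∀ j : Fin 28, j ≠ 27 → ∃ g, (iW g * rho) • (27 : Fin 28) = j := fun j hj => by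
    obtain ⟨w, -, e⟩ := (S_facts.2 j j.2).resolve_left fun e => hj (Fin.ext e)
    exact ⟨_, Fin.ext ((CP.smul_val _ 27).trans e)⟩
  have h3 := (MulAction.stabilizer S7 (27 : Fin 28)).card_mul_index
  rw [MulAction.index_stabilizer, Set.eq_univ_of_forall (s := MulAction.orbit S7 (27 : Fin 28))
    (fun j => (eq_or_ne j 27).elim (fun e => e ▸ MulAction.mem_orbit_self _) fun e =>
      (h2 j e).elim fun g hg => ⟨_, hg⟩), Set.ncard_univ, Nat.card_eq_fintype_card (α := Fin 28),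
    Fintype.card_fin] at h3
  have h4 : iW.range ≤ MulAction.stabilizer S7 (27 : Fin 28) := by rintro _ ⟨g, rfl⟩; exact h1 g
  have h5 := card_le_of_le h4
  have h6 : Nat.card S7 ≤ 1451520 := presS msS (by decide +kernel) (by decide +kernel)
  have h7 : Nat.card iW.range = 51840 :=
    (Nat.card_congr (MonoidHom.ofInjective iW_inj).toEquiv).symm.trans card_W
  exact ⟨by omega, fun g hg => (eq_of_le_of_card_ge h4 (by omega)).ge hg, h1, h2⟩

theorem injS {f : S7 →* G} (h : f (iW (iP (iL z))) ≠ 1) : Function.Injective f := by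
  obtain ⟨-, h1, h2, h3⟩ := card_S
  have a1 : ∀ k ∈ f.ker, ∀ l ∈ f.ker, k • (27 : Fin 28) = l • 27 → k = l := fun k hk l hl e => by
    obtain ⟨g, hg⟩ := h1 (l⁻¹ * k) (by rw [mul_smul, e, inv_smul_smul])
    have := injW (f := f.comp iW) h (a₁ := g) (a₂ := 1) (by
      rw [map_one, MonoidHom.comp_apply, hg]; exact mul_mem (inv_mem hl) hk)
    rw [this, map_one] at hg
    exact (inv_mul_eq_one.mp hg.symm).symm
  have a2 : ∀ k ∈ f.ker, k ≠ 1 → ∀ j : Fin 28, j ≠ 27 → ∃ l ∈ f.ker, IsConj k l ∧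
      l • (27 : Fin 28) = j := fun k hk h0 j hj => by
    obtain ⟨g, hg⟩ := h3 j hj
    obtain ⟨g', hg'⟩ := h3 (k • 27) fun e => h0 (a1 k hk 1 (one_mem _) (e.trans (one_smul _ _).symm))
    refine ⟨_, f.normal_ker.conj_mem k hk (iW (g * g'⁻¹)), isConj_cj _ _, ?_⟩
    rw [← map_inv, mul_smul, h2, mul_smul, ← hg', ← hg, ← mul_smul, ← mul_assoc, ← map_mul]
    simp
  refine (injective_iff_map_eq_one f).mpr fun k hk => ?_
  by_contra h0
  have a3 : Nat.card f.ker = 28 := (Nat.card_congr (Equiv.ofBijective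
    (fun l : f.ker => l.1 • (27 : Fin 28)) ⟨fun a b e => Subtype.ext (a1 _ a.2 _ b.2 e), fun j =>
      (eq_or_ne j 27).elim (fun e => ⟨1, (one_smul _ _).trans e.symm⟩) fun e =>
        (a2 k hk h0 j e).elim fun l hl => ⟨⟨l, hl.1⟩, hl.2.2⟩⟩)).trans (by simp)
  obtain ⟨a, ha, oa⟩ := exists_mem_orderOf_eq_of_dvd_card (H := f.ker) Nat.prime_two (by omega)
  obtain ⟨b, hb, ob⟩ := exists_mem_orderOf_eq_of_dvd_card (H := f.ker) Nat.prime_seven (by omega)
  obtain ⟨l, hl, e1, e2⟩ := a2 a ha (by rintro rfl; simp at oa) (b • 27) fun e =>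
    absurd (a1 b hb 1 (one_mem _) (e.trans (one_smul _ _).symm)) (by rintro rfl; simp at ob)
  have := isConj_orderOf e1
  rw [a1 l hl b hb e2] at this
  omega

end Cfsg.Agent.P43
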