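import Cfsg.Agent.P43.RealA
import Cfsg.Agent.P43.S6F
import Cfsg.Agent.P43.Mod2

/-! The real case with automiser `S₄ × 2`: the centraliser of `x` and fusion of involutions. -/

set_option autoImplicit false
set_option maxRecDepth 100000
set_option synthInstance.maxSize 4096

namespace Cfsg.Agent.P43

open Subgroup Cfsg.Agent.Mat Cfsg.Agent.Char Cfsg.Agent.Local L Equiv
open scoped Pointwise

attribute [local irreducible] memN r1 r2 r3 z s sg qq eL cmul cinv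
attribute [local instance 10000] List.decidableBAll

variable {G : Type*} [Group G] {φ : L →* G} {n t : G} {X : Subgroup G} {ψ : S6 →* G}

theorem Acts.ne_one {J : Subgroup G} {e : V27 → G} (hp : Param J e) {g : G} {f : V27 → V27}
    (h : Acts e g f) (v : V27) (hv : f v ≠ v) : g ≠ 1 := by
  rintro rfl; exact hv (h.fix hp (by simp))

theorem acts_ta {J : Subgroup G} {e : V27 → G} (hp : Param J e) {g : G}
    (h1 : g * e (0, 2, 2) * g⁻¹ = e (0, 2, 2)) (h2 : g * e (1, 2, 2) * g⁻¹ = e (0, 1, 2))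
    (h3 : g * e (0, 1, 2) * g⁻¹ = e (1, 2, 2)) : Acts e g ta := fun v => by
  obtain ⟨u, rfl⟩ : ∃ u, lin ((0, 2, 2), (1, 2, 2), (0, 1, 2)) u = v := by revert v; decide
  have k : ∀ a b c, g * e a * g⁻¹ = e (ta a) → g * e b * g⁻¹ = e (ta b) → c = a + b →
      g * e c * g⁻¹ = e (ta c) := by
    rintro a b _ ha hb rfl
    rw [hp.add, ← conj_mul, ha, hb, ← hp.add]; congr 1; clear * -; revert a b; decide
  refine V27_ind (P := fun u => g * e (lin _ u) * g⁻¹ = e (ta (lin _ u)))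
    (by change g * e 0 * g⁻¹ = e 0; rw [hp.zero]; group) (fun u hu => ⟨k _ _ _ hu h1 ?_,
      k _ _ _ hu h2 ?_, k _ _ _ hu h3 ?_⟩) u <;> clear * - <;> revert u <;> decide

theorem XD.inv (h : XD φ X) {c : G} (hc : c * ee φ (0, 2, 2) = ee φ (0, 2, 2) * c) (e : c ^ 4 = 1) :
    c ∈ X := h.two c hc (Nat.Coprime.coprime_dvd_left (orderOf_dvd_of_pow_eq_one e) (by norm_num))

theorem XD.cm (h : XD φ X) {g : G} (hg : g ∈ X) : g * ee φ (0, 2, 2) = ee φ (0, 2, 2) * g :=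
  mem_centralizer_singleton_iff.mp (h.le hg)

/-- The case that `C(x) = 3 × S₆`. -/
structure S6D (φ : L →* G) (n t : G) (X : Subgroup G) (ψ : S6 →* G) : Prop extends XD φ X where
  inj : Function.Injective ψ
  ran : ∀ g, g ∈ X ↔ ∃ p, ψ p = g
  s1 : ψ (swap 0 1) = n * φ s
  s5 : ψ (swap 4 5) = φ s
  y : ψ y6 = ee φ (1, 2, 2)
  w : ψ (swap 3 4 * swap 4 5) = ee φ (0, 1, 2)
  ca : ∀ p, t * n * ψ p = ψ p * (t * n)

theorem S6D.n6 (h : S6D φ n t X ψ) : ψ n6 = n := by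
  rw [P43.n6, map_mul, h.s1, h.s5, mul_assoc, ss, mul_one]

theorem S6D.cm' (h : S6D φ n t X ψ) {p q : S6} (e : ψ p * ψ q = ψ q * ψ p) : p * q = q * p :=
  h.inj (by simpa only [map_mul])

theorem S6D.cx (h : S6D φ n t X ψ) (p : S6) : ψ p * ee φ (0, 2, 2) = ee φ (0, 2, 2) * ψ p :=
  h.cm ((h.ran _).mpr ⟨p, rfl⟩)

theorem S6D.acts_t6 (h : S6D φ n t X ψ) (hp : Param (JJ φ) (ee φ)) : Acts (ee φ) (ψ t6) ta :=
  acts_ta hp (mul_inv_eq_iff_eq_mul.mpr (h.cx _))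
    (by rw [← h.y, ← h.w, ← map_inv, ← map_mul, ← map_mul]; exact congrArg ψ (by decide))
    (by rw [← h.y, ← h.w, ← map_inv, ← map_mul, ← map_mul]; exact congrArg ψ (by decide))

theorem S6D.dec' (h : S6D φ n t X ψ) {g c : G} (hg : g * ee φ (0, 2, 2) = ee φ (0, 2, 2) * g)
    (h1 : g * c = c * g) (h2 : ee φ (0, 2, 2) * c = c * ee φ (0, 2, 2)) :
    ∃ i : ℕ, ∃ p, g = ee φ (0, 2, 2) ^ i * ψ p ∧ ψ p * c = c * ψ p := by
  obtain ⟨i, k, hk, rfl⟩ := h.dec g hg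
  obtain ⟨p, rfl⟩ := (h.ran k).mp hk
  exact ⟨i, p, rfl, by
    rwa [mul_assoc, ← mul_assoc c, ← (Commute.pow_left h2 i).eq, mul_assoc, mul_right_inj] at h1⟩

variable [Finite G]

theorem RR.exists_S6D (h : RR φ n t) (hX : XD φ X) (θ : X ≃* S6) : ∃ ψ, S6D φ n t X ψ := by
  have hp := h.par
  have hns := h.act.mul (acts_s φ)
  have hB := hns.mul (acts_par hp (1, 2, 2))
  have hD := (acts_par hp (0, 1, 2)).mul (acts_s φ)
  have e1 : n * φ s * ee φ (1, 2, 2) = (ee φ (1, 2, 2))⁻¹ * (n * φ s) := by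
    rw [← hp.neg, ← mul_inv_eq_iff_eq_mul]; exact hns _
  have e2 : φ s * ee φ (0, 1, 2) = (ee φ (0, 1, 2))⁻¹ * φ s := by
    rw [← hp.neg, ← mul_inv_eq_iff_eq_mul]; exact acts_s φ _
  have e3 : ∀ v, ee φ v * ee φ v = (ee φ v)⁻¹ := fun v => by
    rw [eq_inv_iff_mul_eq_one, ← pow_three', hp.cube V27_three]
  have B2 : n * φ s * ee φ (1, 2, 2) * (n * φ s * ee φ (1, 2, 2)) = 1 := by
    nth_rewrite 1 [e1]; rw [mul_assoc, ← mul_assoc (n * φ s), h.nss]; group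
  have D2 : ee φ (0, 1, 2) * φ s * (ee φ (0, 1, 2) * φ s) = 1 := by
    rw [mul_assoc, ← mul_assoc (φ s), e2, mul_assoc, ss]; group
  have c1 : Commute (n * φ s) (φ s) := Commute.mul_left h.ns rfl
  have c2 : Commute (n * φ s) (ee φ (0, 1, 2)) := hns.comm rfl
  have c3 : Commute (ee φ (1, 2, 2)) (φ s) := ((acts_s φ).comm rfl).symm
  have c4 : Commute (ee φ (1, 2, 2)) (ee φ (0, 1, 2)) := hp.comm _ (hp.mem' _) _ (hp.mem' _)
  have k : ∀ {a b : X}, (a : G) = b → θ a = θ b := fun e => congrArg θ (Subtype.ext e)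
  have k' : ∀ {a b : X}, (a : G) ≠ b → θ a ≠ θ b := fun e e' => e (congrArg _ (θ.injective e'))
  have o := map_one θ
  obtain ⟨ψ, a1, a2, a3, a4, a5⟩ := s6_std
    (a := θ ⟨_, hX.inv (hns.comm rfl) (pow_four_of_sq h.nss)⟩)
    (b := θ ⟨_, hX.inv (hB.comm rfl) (pow_four_of_sq B2)⟩)
    (d := θ ⟨_, hX.inv (hD.comm rfl) (pow_four_of_sq D2)⟩)
    (e := θ ⟨_, hX.inv ((acts_s φ).comm rfl) (pow_four_of_sq (ss φ))⟩)
    (by rw [← map_mul, ← o]; exact k h.nss) (by rw [← map_mul, ← o]; exact k B2)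
    (by rw [← map_mul, ← o]; exact k D2) (by rw [← map_mul, ← o]; exact k (ss φ))
    (o ▸ k' (hns.ne_one hp (1, 0, 0) (by decide))) (o ▸ k' (hB.ne_one hp (1, 0, 0) (by decide)))
    (o ▸ k' (hD.ne_one hp (0, 1, 0) (by decide)))
    (o ▸ k' ((acts_s φ).ne_one hp (0, 1, 0) (by decide)))
    (k' fun e => hp.ne_one (by decide) (left_eq_mul.mp e))
    (k' fun e => hp.ne_one (by decide) (mul_eq_right.mp e))
    (by
      simp only [← map_mul]; refine k ?_
      change n * φ s * (n * φ s * _) * (n * φ s) = n * φ s * _ * (n * φ s) * (n * φ s * _)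
      rw [← mul_assoc (n * φ s), h.nss, one_mul, mul_assoc, ← mul_assoc (n * φ s) (n * φ s), h.nss,
        one_mul, mul_assoc (n * φ s), e3, eq_mul_inv_iff_mul_eq, mul_assoc, e1, mul_inv_cancel_left])
    (by
      simp only [← map_mul]; refine k ?_
      change _ * φ s * φ s * (_ * φ s) = φ s * (_ * φ s) * φ s
      rw [mul_assoc (ee φ _) (φ s) (φ s), ss, mul_one, ← mul_assoc, e3, mul_assoc (φ s), mul_assoc,
        ss, mul_one, e2])
    (by simp only [← map_mul]; exact k (c2.mul_right c1))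
    (by simp only [← map_mul]; exact k c1)
    (by simp only [← map_mul]; exact k ((c2.mul_right c1).mul_left (c4.mul_right c3)))
    (by simp only [← map_mul]; exact k (c1.mul_left c3))
  let f := X.subtype.comp (θ.symm.toMonoidHom.comp ψ)
  have b0 : Function.Injective f := X.subtype_injective.comp (θ.symm.injective.comp a1.1)
  have b1 : ∀ g, g ∈ X ↔ ∃ p, f p = g := fun g => ⟨fun hg => by
    obtain ⟨p, e⟩ := a1.2 (θ ⟨g, hg⟩)
    exact ⟨p, by simp [f, e]⟩, by rintro ⟨p, rfl⟩; exact (θ.symm _).2⟩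
  have b2 : f (swap 0 1) = n * φ s := by simp [f, a2]
  have b3 : f (swap 1 2) = n * φ s * ee φ (1, 2, 2) := by simp [f, a3]
  have b4 : f (swap 3 4) = ee φ (0, 1, 2) * φ s := by simp [f, a4]
  have b5 : f (swap 4 5) = φ s := by simp [f, a5]
  have d0 : Commute (t * n) (φ s) := h.sa.symm
  have d1 : Commute (t * n) (f (swap 0 1)) :=
    b2 ▸ Commute.mul_right (Commute.mul_left h.tn rfl) d0
  have d2 : Commute (t * n) (f (swap 1 2)) := b3 ▸ Commute.mul_right (b2 ▸ d1) (h.acts_a.comm rfl)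
  have d4 : Commute (t * n) (f (swap 3 4)) := b4 ▸ Commute.mul_right (h.acts_a.comm rfl) d0
  have d5 : Commute (t * n) (f (swap 4 5)) := b5 ▸ d0
  have d3 : Commute (t * n) (f (swap 2 3)) := by
    obtain ⟨p, e⟩ := (b1 _).mp (conj_mem_of_mem_normalizer (hX.nor (mem_normalizer_of_conj_mem
      (g := t * n) fun g hg => mem_centralizer_singleton_iff.mpr (Commute.inv_right_iff.mp (by
        rw [← hp.neg, ← show _ = ee φ (-(0, 2, 2)) from h.acts_a (0, 2, 2)]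
        exact (Commute.conj_iff _).mpr (mem_centralizer_singleton_iff.mp hg)))))
        ((b1 _).mpr ⟨swap 2 3, rfl⟩))
    have m : ∀ {q}, Commute (t * n) (f q) → f q = t * n * f q * (t * n)⁻¹ := fun e => by
      rw [e.eq, mul_inv_cancel_right]
    have := (s6_facts p).1
      (b0 (by rw [map_mul, map_mul, e, m d1]; simp only [conj_mul, ← map_mul]; congr 3; decide))
      (b0 (by rw [map_mul, map_mul, e, m d5]; simp only [conj_mul, ← map_mul]; congr 3; decide))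
      (b0 (by simp only [map_mul f, e]; rw [m d2]; simp only [conj_mul, ← map_mul]; congr 3; decide))
      (b0 (by simp only [map_mul f, e]; rw [m d4]; simp only [conj_mul, ← map_mul]; congr 3; decide))
    exact mul_inv_eq_iff_eq_mul.mp (this ▸ e).symm
  refine ⟨f, hX, b0, b1, b2, b5, by rw [y6, map_mul, b2, b3, ← mul_assoc, h.nss, one_mul],
    by rw [map_mul, b4, b5, mul_assoc, ss, mul_one], fun p => ?_⟩
  refine (mem_centralizer_singleton_iff.mp ((closure_le ((centralizer {t * n}).comap f)).mpr ?_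
    ((Pres.adj_closure 5).ge (mem_top p)))).symm
  rintro _ ⟨i, rfl⟩
  refine mem_centralizer_singleton_iff.mpr (Eq.symm ?_)
  fin_cases i
  exacts [d1, d2, d3, d4, d5]

/-- The two possibilities for the centraliser of `x`. -/
def Dich (φ : L →* G) (n t : G) : Prop :=
  (∀ g, g * ee φ (0, 2, 2) = ee φ (0, 2, 2) * g → g ∈ normalizer (JJ φ : Set G)) ∨
    ∃ X ψ, S6D φ n t X ψ

theorem RR.dich (h : RR φ n t) : Dich φ n t := by
  obtain ⟨X, h1, h2⟩ := h.exists_X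
  exact h2.imp_right fun ⟨θ⟩ => ⟨X, h.exists_S6D h1 θ⟩

theorem RR.n9_n (h : RR φ n t) {i : G} (hi : IsConj n i) : ¬ 9 ∣ Nat.card (centralizer {i}) := by
  refine h.n9 h.act (p := (0, 2, 2)) (by decide) (by decide) (fun g h1 h2 => ?_) hi
  obtain h3 | ⟨X, ψ, h3⟩ := h.dich
  · exact (h.stab_x h2 (h3 g h2)).1
  · obtain ⟨i, p, rfl, e⟩ := h3.dec' h2 h1 (h.act.comm rfl).symm
    rw [(Commute.pow_left (h3.cx p).symm i).mul_pow, ← map_pow,
      (s6_facts p).2.1 (h3.cm' (h3.n6.symm ▸ e)), map_one, mul_one]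
    exact pow_mem (pow_mem (h.par.mem' _) i) 4

theorem RR.exp_xs (h : RR φ n t) {g : G} (h1 : g * φ s = φ s * g)
    (h2 : g * ee φ (0, 2, 2) = ee φ (0, 2, 2) * g) : g ^ 12 = 1 := by
  obtain h3 | ⟨X, ψ, h3⟩ := h.dich
  · obtain ⟨v, e⟩ := (h.stab_x h2 (h3 g h2)).1
    rw [show 12 = 4 * 3 from rfl, pow_mul, ← e, h.par.cube V27_three]
  · obtain ⟨i, p, rfl, e⟩ := h3.dec' h2 h1 ((acts_s φ).comm rfl).symm
    rw [(Commute.pow_left (h3.cx p).symm i).mul_pow, ← map_pow,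
      ((s6_facts p).2.2.2 (h3.cm' (h3.s5.symm ▸ e))).1, map_one, mul_one, pow_right_comm,
      show 12 = 3 * 4 from rfl, pow_mul, h.par.cube V27_three, one_pow, one_pow]

omit [Finite G] in
theorem Base.conj_of_acts (h : Base φ) {i c k : G} {f g g' : V27 → V27} (hi : Acts (ee φ) i f)
    (hc : Acts (ee φ) c g) (hk : Acts (ee φ) k g') (ii : i * i = 1) (cc : c * c = 1)
    (e : ∀ v, f (g' v) = g' (g v)) (e' : ∀ v, g (g v) = v) : IsConj c i := by
  obtain ⟨w, e1⟩ := h.coset (g := k⁻¹ * i * k⁻¹⁻¹) (fun v => by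
    rw [show k⁻¹ * i * k⁻¹⁻¹ * ee φ v * (k⁻¹ * i * k⁻¹⁻¹)⁻¹ =
      k⁻¹ * (i * (k * ee φ v * k⁻¹) * i⁻¹) * k by group, hk, hi, e, ← hk]; group) hc e'
  exact (h.conj_coset cc (by rw [← e1, conj_mul, ii]; group)).trans
    (e1 ▸ (isConj_cj _ _).symm)

theorem RR.inv_x0 (h : RR φ n t) {i : G} (hn : i ∈ normalizer (JJ φ : Set G)) (ii : i * i = 1)
    (hx : i * ee φ (0, 2, 2) * i⁻¹ = (ee φ (0, 2, 2))⁻¹) : ¬ IsConj (φ s) i := fun hc => by
  have hp := h.par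
  obtain ⟨u, hu, e⟩ := h.nor i hn
  rcases (by decide +kernel : ∀ u ∈ act48, lin u (0, 2, 2) = -(0, 2, 2) →
    (∀ v, lin u (lin u v) = v) → lin u (2, 2, 2) = -(2, 2, 2) ∨
    (∀ v, lin u v = ((-nu v).1, (-nu v).2.2, (-nu v).2.1)) ∨ (∀ v, lin u v = -nu v) ∨
    ∃ a ∈ act6, ∀ v, lin u (lin a v) = lin a (nu v)) u hu
    (hp.inj ((e _).symm.trans (hx.trans (hp.neg _).symm)))
    (fun v => hp.inj ((e.mul e v).symm.trans (by rw [ii]; group))) with e1 | e1 | e1 | ⟨a, ha, e1⟩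
  · exact h.n9_z ii (by rw [← ee_z, e, e1, hp.neg]) (h.nine_s hc)
  · exact h.n9_sa (h.conj_of_acts e ((acts_s φ).mul h.acts_a) (acts_one _) ii h.sasa e1
      (by decide)) (h.nine_s hc)
  · exact h.not_sa (hc.trans (h.conj_of_acts e h.acts_a (acts_one _) ii h.aa e1 (by decide)).symm)
  · obtain ⟨l, hl⟩ := real6' φ ha
    exact h.n9_n (h.conj_of_acts e h.act hl ii h.nn e1 (by decide)) (h.nine_s hc)

theorem RR.inv_x (h : RR φ n t) {i : G} (ii : i * i = 1)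
    (hx : i * ee φ (0, 2, 2) * i⁻¹ = (ee φ (0, 2, 2))⁻¹) : ¬ IsConj (φ s) i := fun hc => by
  have hp := h.par
  have ax : t * n * ee φ (0, 2, 2) * (t * n)⁻¹ = (ee φ (0, 2, 2))⁻¹ :=
    (h.acts_a _).trans (hp.neg (0, 2, 2))
  have h1 : i * (t * n) * ee φ (0, 2, 2) = ee φ (0, 2, 2) * (i * (t * n)) := by
    rw [← mul_inv_eq_iff_eq_mul, show i * (t * n) * ee φ (0, 2, 2) * (i * (t * n))⁻¹ =
      i * (t * n * ee φ (0, 2, 2) * (t * n)⁻¹) * i⁻¹ by group, ax, ← conj_inv, hx, inv_inv]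
  obtain h3 | ⟨X, ψ, h3⟩ := h.dich
  · exact h.inv_x0 ((mul_mem_cancel_right (h.acts_a.norm hp)).mp (h3 _ h1)) ii hx hc
  obtain ⟨k, p, e, -⟩ := h3.dec' h1 (mul_one _ |>.trans (one_mul _).symm) (by simp)
  obtain ⟨w, hw⟩ := pow_mem (hp.mem' (0, 2, 2)) k
  have h4 : ∀ q, ψ q * (t * n) * ee φ (0, 2, 2) * (ψ q * (t * n))⁻¹ = (ee φ (0, 2, 2))⁻¹ := fun q => by
    rw [show ψ q * (t * n) * ee φ (0, 2, 2) * (ψ q * (t * n))⁻¹ =
      ψ q * (t * n * ee φ (0, 2, 2) * (t * n)⁻¹) * (ψ q)⁻¹ by group, ax,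
      (Commute.inv_right (h3.cx q)).eq, mul_inv_cancel_right]
  have h5 : ∀ q, ψ q * (t * n) * (ψ q * (t * n)) = ψ (q * q) := fun q => by
    rw [mul_assoc, ← mul_assoc (t * n), h3.ca, mul_assoc, h.aa, mul_one, map_mul]
  have h6 : i = ee φ (0, 2, 2) ^ k * (ψ p * (t * n)) := by
    rw [← mul_assoc, ← e, mul_assoc, h.aa, mul_one]
  have h7 : ψ p * (t * n) * (ψ p * (t * n)) = 1 := by
    have := congrArg (· ^ k) (h4 p)
    simp only [conj_pow, inv_pow] at this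
    rw [← ii, h6]
    generalize ψ p * (t * n) = j at this ⊢
    rw [mul_assoc, ← mul_assoc j, ← inv_mul_cancel_right (j * _ ^ k) j, this]; group
  have h8 : IsConj (φ s) (ψ p * (t * n)) :=
    hc.trans (h6 ▸ hw ▸ (h.conj_coset h7 (by rw [hw, ← h6, ii])).symm)
  have h9 : ∀ q, q * q = 1 → ψ q ∈ normalizer (JJ φ : Set G) → ¬ IsConj (φ s) (ψ q * (t * n)) :=
    fun q h1 h2 => h.inv_x0 (mul_mem h2 (h.acts_a.norm hp)) (by rw [h5, h1, map_one]) (h4 q)
  obtain rfl | ⟨g, hg⟩ := s6_inv p (h3.inj (by rw [← h5, h7, map_one]))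
  · exact h9 1 (mul_one 1) (map_one ψ ▸ one_mem _) h8
  have h10 := h8.trans (isConj_cj (ψ g) _)
  rw [← conj_mul, ← h3.ca g, mul_inv_cancel_right, ← map_inv, ← map_mul, ← map_mul] at h10
  rcases hg with e | e | e <;> rw [e] at h10
  exacts [h9 _ (by decide) (h3.s5 ▸ (acts_s φ).norm hp) h10,
    h9 _ (by decide) (h3.n6.symm ▸ h.act.norm hp) h10,
    h9 _ (by decide) ((h3.acts_t6 hp).norm hp) h10]

end Cfsg.Agent.P43
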